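import Cfsg.Agent.Helper8.ReachJ

set_option autoImplicit false

namespace Cfsg.Agent.Helper8

open Cfsg.Lie

set_option maxRecDepth 100000 in
theorem reachJChk_B2 : reachCheckJ chevB2 [0, 1] [(1, [0, 1]), (0, [1, 0]), (0, [0]), (1, [1]), (1, []), (0, []), (0, [1]), (1, [0])] = true := by decide +kernel

set_option maxRecDepth 100000 in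
theorem reachJChk_D4 : reachCheckJ chevD4 [0] [(0, [1, 3, 2, 1, 0]), (0, [3, 2, 1, 0]), (0, [2, 1, 0]), (0, [3, 1, 0]), (0, [1, 0]), (0, [0]), (0, [3, 2, 0, 1, 0]), (0, [2, 0, 1, 0]), (0, [3, 0, 1, 0]), (0, [0, 1, 0]), (0, [1, 2, 0, 1, 0]), (0, [1, 3, 0, 1, 0]), (0, [1, 3, 0, 1]), (0, [1, 2, 0, 1]), (0, [0, 1]), (0, [3, 0, 1]), (0, [2, 0, 1]), (0, [3, 2, 0, 1]), (0, []), (0, [1]), (0, [3, 1]), (0, [2, 1]), (0, [3, 2, 1]), (0, [1, 3, 2, 1])] = true := by decide +kernel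

set_option maxRecDepth 100000 in
theorem reachJChk_F4 : reachCheckJ chevF4 [0, 2] [(2, [3, 2, 1, 2, 3, 0, 1, 2]), (2, [2, 1, 2, 3, 0, 1, 2]), (2, [1, 2, 3, 0, 1, 2]), (0, [0, 1, 2, 3, 1, 2, 1, 0]), (2, [2, 3, 0, 1, 2]), (2, [3, 0, 1, 2]), (2, [0, 1, 2]), (0, [1, 2, 3, 1, 2, 1, 0]), (0, [2, 3, 1, 2, 1, 0]), (0, [3, 1, 2, 1, 0]), (0, [1, 2, 1, 0]), (0, [3, 2, 1, 0]), (0, [2, 1, 0]), (0, [1, 0]), (0, [0]), (2, [2, 3, 1, 2]), (2, [3, 1, 2]), (2, [1, 2]), (0, [3, 2, 0, 1, 0]), (0, [2, 0, 1, 0]), (0, [0, 1, 0]), (2, [3, 2]), (2, [2]), (2, [2, 3, 2]), (2, [2, 3]), (2, []), (2, [3]), (0, [0, 1]), (0, [2, 0, 1]), (0, [3, 2, 0, 1]), (2, [1]), (2, [3, 1]), (2, [2, 3, 1]), (0,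 []), (0, [1]), (0, [2, 1]), (0, [3, 2, 1]), (0, [1, 2, 1]), (0, [3, 1, 2, 1]), (0, [2, 3, 1, 2, 1]), (0, [1, 2, 3, 1, 2, 1]), (2, [0, 1]), (2, [3, 0, 1]), (2, [2, 3, 0, 1]), (0, [0, 1, 2, 3, 1, 2, 1]), (2, [1, 2, 3, 0, 1]), (2, [2, 1, 2, 3, 0, 1]), (2, [3, 2, 1, 2, 3, 0, 1])] = true := by decide +kernel

set_option maxRecDepth 100000 in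
theorem reachJChk_E6 : reachCheckJ chevE6 [0] [(0, [1, 3, 4, 5, 2, 3, 4, 1, 3, 2, 0]), (0, [3, 4, 5, 2, 3, 4, 1, 3, 2, 0]), (0, [4, 5, 2, 3, 4, 1, 3, 2, 0]), (0, [5, 2, 3, 4, 1, 3, 2, 0]), (0, [2, 3, 4, 1, 3, 2, 0]), (0, [4, 5, 3, 4, 1, 3, 2, 0]), (0, [5, 3, 4, 1, 3, 2, 0]), (0, [3, 4, 1, 3, 2, 0]), (0, [5, 4, 1, 3, 2, 0]), (0, [4, 1, 3, 2, 0]), (0, [1, 3, 2, 0]), (0, [5, 4, 3, 2, 0]), (0, [4, 3, 2, 0]), (0, [3, 2, 0]), (0, [2, 0]), (0, [0]), (0, [4, 5, 3, 4, 1, 3, 0, 2, 0]), (0, [5, 3, 4, 1, 3, 0, 2, 0]), (0, [3, 4, 1, 3, 0, 2, 0]), (0, [5, 4, 1, 3, 0, 2, 0]), (0, [4, 1, 3, 0, 2, 0]), (0, [1, 3, 0, 2, 0]), (0, [5, 4, 2, 1, 3, 0, 2, 0]), (0, [4, 2, 1, 3, 0, 2, 0]), (0,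 [2, 1, 3, 0, 2, 0]), (0, [3, 2, 1, 3, 0, 2, 0]), (0, [5, 4, 3, 0, 2, 0]), (0, [4, 3, 0, 2, 0]), (0, [3, 0, 2, 0]), (0, [0, 2, 0]), (0, [5, 4, 2, 3, 0, 2, 0]), (0, [4, 2, 3, 0, 2, 0]), (0, [2, 3, 0, 2, 0]), (0, [5, 3, 4, 2, 3, 0, 2, 0]), (0, [3, 4, 2, 3, 0, 2, 0]), (0, [4, 5, 3, 4, 2, 3, 0, 2, 0]), (0, [4, 5, 3, 4, 2, 3, 0, 2]), (0, [3, 4, 2, 3, 0, 2]), (0, [5, 3, 4, 2, 3, 0, 2]), (0, [2, 3, 0, 2]), (0, [4, 2, 3, 0, 2]), (0, [5, 4, 2, 3, 0, 2]), (0, [0, 2]), (0, [3, 0, 2]), (0, [4, 3, 0, 2]), (0, [5, 4, 3, 0, 2]), (0, [3, 2, 1, 3, 0, 2]), (0, [2, 1, 3, 0, 2]), (0, [4, 2, 1, 3, 0, 2]), (0, [5, 4, 2, 1, 3, 0, 2]), (0, [1, 3, 0, 2]), (0, [4, 1, 3, 0, 2]), (0, [5, 4, 1, 3,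 0, 2]), (0, [3, 4, 1, 3, 0, 2]), (0, [5, 3, 4, 1, 3, 0, 2]), (0, [4, 5, 3, 4, 1, 3, 0, 2]), (0, []), (0, [2]), (0, [3, 2]), (0, [4, 3, 2]), (0, [5, 4, 3, 2]), (0, [1, 3, 2]), (0, [4, 1, 3, 2]), (0, [5, 4, 1, 3, 2]), (0, [3, 4, 1, 3, 2]), (0, [5, 3, 4, 1, 3, 2]), (0, [4, 5, 3, 4, 1, 3, 2]), (0, [2, 3, 4, 1, 3, 2]), (0, [5, 2, 3, 4, 1, 3, 2]), (0, [4, 5, 2, 3, 4, 1, 3, 2]), (0, [3, 4, 5, 2, 3, 4, 1, 3, 2]), (0, [1, 3, 4, 5, 2, 3, 4, 1, 3, 2])] = true := by decide +kernel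

set_option maxRecDepth 100000 in
theorem reachJChk_E7 : reachCheckJ chevE7 [0] [(0, [0, 2, 3, 4, 5, 6, 1, 3, 4, 5, 2, 3, 4, 1, 3, 2, 0]), (0, [2, 3, 4, 5, 6, 1, 3, 4, 5, 2, 3, 4, 1, 3, 2, 0]), (0, [3, 4, 5, 6, 1, 3, 4, 5, 2, 3, 4, 1, 3, 2, 0]), (0, [4, 5, 6, 1, 3, 4, 5, 2, 3, 4, 1, 3, 2, 0]), (0, [5, 6, 1, 3, 4, 5, 2, 3, 4, 1, 3, 2, 0]), (0, [6, 1, 3, 4, 5, 2, 3, 4, 1, 3, 2, 0]), (0, [1, 3, 4, 5, 2, 3, 4, 1, 3, 2, 0]), (0, [4, 5, 6, 3, 4, 5, 2, 3, 4, 1, 3, 2, 0]), (0, [5, 6, 3, 4, 5, 2, 3, 4, 1, 3, 2, 0]), (0, [6, 3, 4, 5, 2, 3, 4, 1, 3, 2, 0]), (0, [3, 4, 5, 2, 3, 4, 1, 3, 2, 0]), (0, [5, 6, 4, 5, 2, 3, 4, 1, 3, 2, 0]), (0, [6, 4, 5, 2, 3, 4, 1, 3, 2, 0]), (0, [4,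 5, 2, 3, 4, 1, 3, 2, 0]), (0, [6, 5, 2, 3, 4, 1, 3, 2, 0]), (0, [5, 2, 3, 4, 1, 3, 2, 0]), (0, [2, 3, 4, 1, 3, 2, 0]), (0, [5, 6, 4, 5, 3, 4, 1, 3, 2, 0]), (0, [6, 4, 5, 3, 4, 1, 3, 2, 0]), (0, [4, 5, 3, 4, 1, 3, 2, 0]), (0, [6, 5, 3, 4, 1, 3, 2, 0]), (0, [5, 3, 4, 1, 3, 2, 0]), (0, [3, 4, 1, 3, 2, 0]), (0, [6, 5, 4, 1, 3, 2, 0]), (0, [5, 4, 1, 3, 2, 0]), (0, [4, 1, 3, 2, 0]), (0, [1, 3, 2, 0]), (0, [6, 5, 4, 3, 2, 0]), (0, [5, 4, 3, 2, 0]), (0, [4, 3, 2, 0]), (0, [3, 2, 0]), (0, [2, 0]), (0, [0]), (0, [5, 6, 4, 5, 3, 4, 1, 3, 0, 2, 0]), (0, [6, 4, 5, 3, 4, 1, 3, 0, 2, 0]), (0, [4, 5, 3, 4, 1, 3, 0, 2, 0]), (0, [6, 5, 3, 4, 1, 3, 0, 2, 0]), (0, [5, 3, 4, 1, 3, 0, 2,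 0]), (0, [3, 4, 1, 3, 0, 2, 0]), (0, [6, 5, 4, 1, 3, 0, 2, 0]), (0, [5, 4, 1, 3, 0, 2, 0]), (0, [4, 1, 3, 0, 2, 0]), (0, [1, 3, 0, 2, 0]), (0, [6, 5, 4, 2, 1, 3, 0, 2, 0]), (0, [5, 4, 2, 1, 3, 0, 2, 0]), (0, [4, 2, 1, 3, 0, 2, 0]), (0, [2, 1, 3, 0, 2, 0]), (0, [3, 2, 1, 3, 0, 2, 0]), (0, [6, 5, 4, 3, 0, 2, 0]), (0, [5, 4, 3, 0, 2, 0]), (0, [4, 3, 0, 2, 0]), (0, [3, 0, 2, 0]), (0, [0, 2, 0]), (0, [6, 5, 4, 2, 3, 0, 2, 0]), (0, [5, 4, 2, 3, 0, 2, 0]), (0, [4, 2, 3, 0, 2, 0]), (0, [2, 3, 0, 2, 0]), (0, [6, 5, 3, 4, 2, 3, 0, 2, 0]), (0, [5, 3, 4, 2, 3, 0, 2, 0]), (0, [3, 4, 2, 3, 0, 2, 0]), (0, [6, 4, 5, 3, 4, 2, 3, 0, 2, 0]), (0, [4, 5, 3, 4, 2, 3, 0, 2, 0]), (0, [5, 6,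 4, 5, 3, 4, 2, 3, 0, 2, 0]), (0, [5, 6, 4, 5, 3, 4, 2, 3, 0, 2]), (0, [4, 5, 3, 4, 2, 3, 0, 2]), (0, [6, 4, 5, 3, 4, 2, 3, 0, 2]), (0, [3, 4, 2, 3, 0, 2]), (0, [5, 3, 4, 2, 3, 0, 2]), (0, [6, 5, 3, 4, 2, 3, 0, 2]), (0, [2, 3, 0, 2]), (0, [4, 2, 3, 0, 2]), (0, [5, 4, 2, 3, 0, 2]), (0, [6, 5, 4, 2, 3, 0, 2]), (0, [0, 2]), (0, [3, 0, 2]), (0, [4, 3, 0, 2]), (0, [5, 4, 3, 0, 2]), (0, [6, 5, 4, 3, 0, 2]), (0, [3, 2, 1, 3, 0, 2]), (0, [2, 1, 3, 0, 2]), (0, [4, 2, 1, 3, 0, 2]), (0, [5, 4, 2, 1, 3, 0, 2]), (0, [6, 5, 4, 2, 1, 3, 0, 2]), (0, [1, 3, 0, 2]), (0, [4, 1, 3, 0, 2]), (0, [5, 4, 1, 3, 0, 2]), (0, [6, 5, 4, 1, 3, 0, 2]), (0, [3, 4, 1, 3, 0, 2]), (0, [5, 3, 4, 1, 3, 0,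 2]), (0, [6, 5, 3, 4, 1, 3, 0, 2]), (0, [4, 5, 3, 4, 1, 3, 0, 2]), (0, [6, 4, 5, 3, 4, 1, 3, 0, 2]), (0, [5, 6, 4, 5, 3, 4, 1, 3, 0, 2]), (0, []), (0, [2]), (0, [3, 2]), (0, [4, 3, 2]), (0, [5, 4, 3, 2]), (0, [6, 5, 4, 3, 2]), (0, [1, 3, 2]), (0, [4, 1, 3, 2]), (0, [5, 4, 1, 3, 2]), (0, [6, 5, 4, 1, 3, 2]), (0, [3, 4, 1, 3, 2]), (0, [5, 3, 4, 1, 3, 2]), (0, [6, 5, 3, 4, 1, 3, 2]), (0, [4, 5, 3, 4, 1, 3, 2]), (0, [6, 4, 5, 3, 4, 1, 3, 2]), (0, [5, 6, 4, 5, 3, 4, 1, 3, 2]), (0, [2, 3, 4, 1, 3, 2]), (0, [5, 2, 3, 4, 1, 3, 2]), (0, [6, 5, 2, 3, 4, 1, 3, 2]), (0, [4, 5, 2, 3, 4, 1, 3, 2]), (0, [6, 4, 5, 2, 3, 4, 1, 3, 2]), (0, [5, 6, 4, 5, 2, 3, 4, 1, 3, 2]), (0, [3, 4, 5,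 2, 3, 4, 1, 3, 2]), (0, [6, 3, 4, 5, 2, 3, 4, 1, 3, 2]), (0, [5, 6, 3, 4, 5, 2, 3, 4, 1, 3, 2]), (0, [4, 5, 6, 3, 4, 5, 2, 3, 4, 1, 3, 2]), (0, [1, 3, 4, 5, 2, 3, 4, 1, 3, 2]), (0, [6, 1, 3, 4, 5, 2, 3, 4, 1, 3, 2]), (0, [5, 6, 1, 3, 4, 5, 2, 3, 4, 1, 3, 2]), (0, [4, 5, 6, 1, 3, 4, 5, 2, 3, 4, 1, 3, 2]), (0, [3, 4, 5, 6, 1, 3, 4, 5, 2, 3, 4, 1, 3, 2]), (0, [2, 3, 4, 5, 6, 1, 3, 4, 5, 2, 3, 4, 1, 3, 2]), (0, [0, 2, 3, 4, 5, 6, 1, 3, 4, 5, 2, 3, 4, 1, 3, 2])] = true := by decide +kernel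

set_option maxRecDepth 100000 in
theorem reachJChk_E8 : reachCheckJ chevE8 [0] [(0, [7, 6, 5, 4, 3, 2, 1, 3, 4, 5, 6, 7, 0, 2, 3, 4, 5, 6, 1, 3, 4, 5, 2, 3, 4, 1, 3, 2, 0]), (0, [6, 5, 4, 3, 2, 1, 3, 4, 5, 6, 7, 0, 2, 3, 4, 5, 6, 1, 3, 4, 5, 2, 3, 4, 1, 3, 2, 0]), (0, [5, 4, 3, 2, 1, 3, 4, 5, 6, 7, 0, 2, 3, 4, 5, 6, 1, 3, 4, 5, 2, 3, 4, 1, 3, 2, 0]), (0, [4, 3, 2, 1, 3, 4, 5, 6, 7, 0, 2, 3, 4, 5, 6, 1, 3, 4, 5, 2, 3, 4, 1, 3, 2, 0]), (0, [3, 2, 1, 3, 4, 5, 6, 7, 0, 2, 3, 4, 5, 6, 1, 3, 4, 5, 2, 3, 4, 1, 3, 2, 0]), (0, [2, 1, 3, 4, 5, 6, 7, 0, 2, 3, 4, 5, 6, 1, 3, 4, 5, 2, 3, 4, 1, 3, 2, 0]), (0, [1, 3, 4, 5, 6, 7, 0, 2, 3, 4, 5, 6, 1, 3, 4, 5, 2, 3, 4, 1, 3, 2, 0]),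 (0, [2, 3, 4, 5, 6, 7, 0, 2, 3, 4, 5, 6, 1, 3, 4, 5, 2, 3, 4, 1, 3, 2, 0]), (0, [3, 4, 5, 6, 7, 0, 2, 3, 4, 5, 6, 1, 3, 4, 5, 2, 3, 4, 1, 3, 2, 0]), (0, [4, 5, 6, 7, 0, 2, 3, 4, 5, 6, 1, 3, 4, 5, 2, 3, 4, 1, 3, 2, 0]), (0, [5, 6, 7, 0, 2, 3, 4, 5, 6, 1, 3, 4, 5, 2, 3, 4, 1, 3, 2, 0]), (0, [6, 7, 0, 2, 3, 4, 5, 6, 1, 3, 4, 5, 2, 3, 4, 1, 3, 2, 0]), (0, [7, 0, 2, 3, 4, 5, 6, 1, 3, 4, 5, 2, 3, 4, 1, 3, 2, 0]), (0, [0, 2, 3, 4, 5, 6, 1, 3, 4, 5, 2, 3, 4, 1, 3, 2, 0]), (0, [1, 3, 4, 5, 6, 7, 2, 3, 4, 5, 6, 1, 3, 4, 5, 2, 3, 4, 1, 3, 2, 0]), (0, [3, 4, 5, 6, 7, 2, 3, 4, 5, 6, 1, 3, 4, 5, 2, 3, 4, 1, 3, 2, 0]), (0, [4, 5, 6, 7, 2, 3, 4, 5, 6, 1, 3, 4, 5, 2, 3, 4, 1, 3, 2, 0]),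 (0, [5, 6, 7, 2, 3, 4, 5, 6, 1, 3, 4, 5, 2, 3, 4, 1, 3, 2, 0]), (0, [6, 7, 2, 3, 4, 5, 6, 1, 3, 4, 5, 2, 3, 4, 1, 3, 2, 0]), (0, [7, 2, 3, 4, 5, 6, 1, 3, 4, 5, 2, 3, 4, 1, 3, 2, 0]), (0, [2, 3, 4, 5, 6, 1, 3, 4, 5, 2, 3, 4, 1, 3, 2, 0]), (0, [4, 5, 6, 7, 3, 4, 5, 6, 1, 3, 4, 5, 2, 3, 4, 1, 3, 2, 0]), (0, [5, 6, 7, 3, 4, 5, 6, 1, 3, 4, 5, 2, 3, 4, 1, 3, 2, 0]), (0, [6, 7, 3, 4, 5, 6, 1, 3, 4, 5, 2, 3, 4, 1, 3, 2, 0]), (0, [7, 3, 4, 5, 6, 1, 3, 4, 5, 2, 3, 4, 1, 3, 2, 0]), (0, [3, 4, 5, 6, 1, 3, 4, 5, 2, 3, 4, 1, 3, 2, 0]), (0, [5, 6, 7, 4, 5, 6, 1, 3, 4, 5, 2, 3, 4, 1, 3, 2, 0]), (0, [6, 7, 4, 5, 6, 1, 3, 4, 5, 2, 3, 4, 1, 3, 2, 0]), (0, [7, 4, 5, 6, 1, 3, 4, 5, 2, 3,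 4, 1, 3, 2, 0]), (0, [4, 5, 6, 1, 3, 4, 5, 2, 3, 4, 1, 3, 2, 0]), (0, [6, 7, 5, 6, 1, 3, 4, 5, 2, 3, 4, 1, 3, 2, 0]), (0, [7, 5, 6, 1, 3, 4, 5, 2, 3, 4, 1, 3, 2, 0]), (0, [5, 6, 1, 3, 4, 5, 2, 3, 4, 1, 3, 2, 0]), (0, [7, 6, 1, 3, 4, 5, 2, 3, 4, 1, 3, 2, 0]), (0, [6, 1, 3, 4, 5, 2, 3, 4, 1, 3, 2, 0]), (0, [1, 3, 4, 5, 2, 3, 4, 1, 3, 2, 0]), (0, [5, 6, 7, 4, 5, 6, 3, 4, 5, 2, 3, 4, 1, 3, 2, 0]), (0, [6, 7, 4, 5, 6, 3, 4, 5, 2, 3, 4, 1, 3, 2, 0]), (0, [7, 4, 5, 6, 3, 4, 5, 2, 3, 4, 1, 3, 2, 0]), (0, [4, 5, 6, 3, 4, 5, 2, 3, 4, 1, 3, 2, 0]), (0, [6, 7, 5, 6, 3, 4, 5, 2, 3, 4, 1, 3, 2, 0]), (0, [7, 5, 6, 3, 4, 5, 2, 3, 4, 1, 3, 2, 0]), (0, [5, 6, 3, 4, 5, 2, 3, 4, 1, 3, 2,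 0]), (0, [7, 6, 3, 4, 5, 2, 3, 4, 1, 3, 2, 0]), (0, [6, 3, 4, 5, 2, 3, 4, 1, 3, 2, 0]), (0, [3, 4, 5, 2, 3, 4, 1, 3, 2, 0]), (0, [6, 7, 5, 6, 4, 5, 2, 3, 4, 1, 3, 2, 0]), (0, [7, 5, 6, 4, 5, 2, 3, 4, 1, 3, 2, 0]), (0, [5, 6, 4, 5, 2, 3, 4, 1, 3, 2, 0]), (0, [7, 6, 4, 5, 2, 3, 4, 1, 3, 2, 0]), (0, [6, 4, 5, 2, 3, 4, 1, 3, 2, 0]), (0, [4, 5, 2, 3, 4, 1, 3, 2, 0]), (0, [7, 6, 5, 2, 3, 4, 1, 3, 2, 0]), (0, [6, 5, 2, 3, 4, 1, 3, 2, 0]), (0, [5, 2, 3, 4, 1, 3, 2, 0]), (0, [2, 3, 4, 1, 3, 2, 0]), (0, [6, 7, 5, 6, 4, 5, 3, 4, 1, 3, 2, 0]), (0, [7, 5, 6, 4, 5, 3, 4, 1, 3, 2, 0]), (0, [5, 6, 4, 5, 3, 4, 1, 3, 2, 0]), (0, [7, 6, 4, 5, 3, 4, 1, 3, 2, 0]), (0, [6, 4, 5, 3, 4, 1,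 3, 2, 0]), (0, [4, 5, 3, 4, 1, 3, 2, 0]), (0, [7, 6, 5, 3, 4, 1, 3, 2, 0]), (0, [6, 5, 3, 4, 1, 3, 2, 0]), (0, [5, 3, 4, 1, 3, 2, 0]), (0, [3, 4, 1, 3, 2, 0]), (0, [7, 6, 5, 4, 1, 3, 2, 0]), (0, [6, 5, 4, 1, 3, 2, 0]), (0, [5, 4, 1, 3, 2, 0]), (0, [4, 1, 3, 2, 0]), (0, [1, 3, 2, 0]), (0, [7, 6, 5, 4, 3, 2, 0]), (0, [6, 5, 4, 3, 2, 0]), (0, [5, 4, 3, 2, 0]), (0, [4, 3, 2, 0]), (0, [3, 2, 0]), (0, [2, 0]), (0, [0]), (0, [6, 7, 5, 6, 4, 5, 3, 4, 1, 3, 0, 2, 0]), (0, [7, 5, 6, 4, 5, 3, 4, 1, 3, 0, 2, 0]), (0, [5, 6, 4, 5, 3, 4, 1, 3, 0, 2, 0]), (0, [7, 6, 4, 5, 3, 4, 1, 3, 0, 2, 0]), (0, [6, 4, 5, 3, 4, 1, 3, 0, 2, 0]), (0, [4, 5, 3, 4, 1, 3, 0, 2, 0]), (0, [7, 6, 5, 3,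 4, 1, 3, 0, 2, 0]), (0, [6, 5, 3, 4, 1, 3, 0, 2, 0]), (0, [5, 3, 4, 1, 3, 0, 2, 0]), (0, [3, 4, 1, 3, 0, 2, 0]), (0, [7, 6, 5, 4, 1, 3, 0, 2, 0]), (0, [6, 5, 4, 1, 3, 0, 2, 0]), (0, [5, 4, 1, 3, 0, 2, 0]), (0, [4, 1, 3, 0, 2, 0]), (0, [1, 3, 0, 2, 0]), (0, [7, 6, 5, 4, 2, 1, 3, 0, 2, 0]), (0, [6, 5, 4, 2, 1, 3, 0, 2, 0]), (0, [5, 4, 2, 1, 3, 0, 2, 0]), (0, [4, 2, 1, 3, 0, 2, 0]), (0, [2, 1, 3, 0, 2, 0]), (0, [3, 2, 1, 3, 0, 2, 0]), (0, [7, 6, 5, 4, 3, 0, 2, 0]), (0, [6, 5, 4, 3, 0, 2, 0]), (0, [5, 4, 3, 0, 2, 0]), (0, [4, 3, 0, 2, 0]), (0, [3, 0, 2, 0]), (0, [0, 2, 0]), (0, [7, 6, 5, 4, 2, 3, 0, 2, 0]), (0, [6, 5, 4, 2, 3, 0, 2, 0]), (0, [5, 4, 2, 3, 0, 2, 0]), (0, [4,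 2, 3, 0, 2, 0]), (0, [2, 3, 0, 2, 0]), (0, [7, 6, 5, 3, 4, 2, 3, 0, 2, 0]), (0, [6, 5, 3, 4, 2, 3, 0, 2, 0]), (0, [5, 3, 4, 2, 3, 0, 2, 0]), (0, [3, 4, 2, 3, 0, 2, 0]), (0, [7, 6, 4, 5, 3, 4, 2, 3, 0, 2, 0]), (0, [6, 4, 5, 3, 4, 2, 3, 0, 2, 0]), (0, [4, 5, 3, 4, 2, 3, 0, 2, 0]), (0, [7, 5, 6, 4, 5, 3, 4, 2, 3, 0, 2, 0]), (0, [5, 6, 4, 5, 3, 4, 2, 3, 0, 2, 0]), (0, [6, 7, 5, 6, 4, 5, 3, 4, 2, 3, 0, 2, 0]), (0, [6, 7, 5, 6, 4, 5, 3, 4, 2, 3, 0, 2]), (0, [5, 6, 4, 5, 3, 4, 2, 3, 0, 2]), (0, [7, 5, 6, 4, 5, 3, 4, 2, 3, 0, 2]), (0, [4, 5, 3, 4, 2, 3, 0, 2]), (0, [6, 4, 5, 3, 4, 2, 3, 0, 2]), (0, [7, 6, 4, 5, 3, 4, 2, 3, 0, 2]), (0, [3, 4, 2, 3, 0, 2]), (0, [5, 3, 4, 2, 3,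 0, 2]), (0, [6, 5, 3, 4, 2, 3, 0, 2]), (0, [7, 6, 5, 3, 4, 2, 3, 0, 2]), (0, [2, 3, 0, 2]), (0, [4, 2, 3, 0, 2]), (0, [5, 4, 2, 3, 0, 2]), (0, [6, 5, 4, 2, 3, 0, 2]), (0, [7, 6, 5, 4, 2, 3, 0, 2]), (0, [0, 2]), (0, [3, 0, 2]), (0, [4, 3, 0, 2]), (0, [5, 4, 3, 0, 2]), (0, [6, 5, 4, 3, 0, 2]), (0, [7, 6, 5, 4, 3, 0, 2]), (0, [3, 2, 1, 3, 0, 2]), (0, [2, 1, 3, 0, 2]), (0, [4, 2, 1, 3, 0, 2]), (0, [5, 4, 2, 1, 3, 0, 2]), (0, [6, 5, 4, 2, 1, 3, 0, 2]), (0, [7, 6, 5, 4, 2, 1, 3, 0, 2]), (0, [1, 3, 0, 2]), (0, [4, 1, 3, 0, 2]), (0, [5, 4, 1, 3, 0, 2]), (0, [6, 5, 4, 1, 3, 0, 2]), (0, [7, 6, 5, 4, 1, 3, 0, 2]), (0, [3, 4, 1, 3, 0, 2]), (0, [5, 3, 4, 1, 3, 0, 2]), (0, [6, 5,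 3, 4, 1, 3, 0, 2]), (0, [7, 6, 5, 3, 4, 1, 3, 0, 2]), (0, [4, 5, 3, 4, 1, 3, 0, 2]), (0, [6, 4, 5, 3, 4, 1, 3, 0, 2]), (0, [7, 6, 4, 5, 3, 4, 1, 3, 0, 2]), (0, [5, 6, 4, 5, 3, 4, 1, 3, 0, 2]), (0, [7, 5, 6, 4, 5, 3, 4, 1, 3, 0, 2]), (0, [6, 7, 5, 6, 4, 5, 3, 4, 1, 3, 0, 2]), (0, []), (0, [2]), (0, [3, 2]), (0, [4, 3, 2]), (0, [5, 4, 3, 2]), (0, [6, 5, 4, 3, 2]), (0, [7, 6, 5, 4, 3, 2]), (0, [1, 3, 2]), (0, [4, 1, 3, 2]), (0, [5, 4, 1, 3, 2]), (0, [6, 5, 4, 1, 3, 2]), (0, [7, 6, 5, 4, 1, 3, 2]), (0, [3, 4, 1, 3, 2]), (0, [5, 3, 4, 1, 3, 2]), (0, [6, 5, 3, 4, 1, 3, 2]), (0, [7, 6, 5, 3, 4, 1, 3, 2]), (0, [4, 5, 3, 4, 1, 3, 2]), (0, [6, 4, 5, 3, 4, 1, 3, 2]), (0, [7, 6,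 4, 5, 3, 4, 1, 3, 2]), (0, [5, 6, 4, 5, 3, 4, 1, 3, 2]), (0, [7, 5, 6, 4, 5, 3, 4, 1, 3, 2]), (0, [6, 7, 5, 6, 4, 5, 3, 4, 1, 3, 2]), (0, [2, 3, 4, 1, 3, 2]), (0, [5, 2, 3, 4, 1, 3, 2]), (0, [6, 5, 2, 3, 4, 1, 3, 2]), (0, [7, 6, 5, 2, 3, 4, 1, 3, 2]), (0, [4, 5, 2, 3, 4, 1, 3, 2]), (0, [6, 4, 5, 2, 3, 4, 1, 3, 2]), (0, [7, 6, 4, 5, 2, 3, 4, 1, 3, 2]), (0, [5, 6, 4, 5, 2, 3, 4, 1, 3, 2]), (0, [7, 5, 6, 4, 5, 2, 3, 4, 1, 3, 2]), (0, [6, 7, 5, 6, 4, 5, 2, 3, 4, 1, 3, 2]), (0, [3, 4, 5, 2, 3, 4, 1, 3, 2]), (0, [6, 3, 4, 5, 2, 3, 4, 1, 3, 2]), (0, [7, 6, 3, 4, 5, 2, 3, 4, 1, 3, 2]), (0, [5, 6, 3, 4, 5, 2, 3, 4, 1, 3, 2]), (0, [7, 5, 6, 3, 4, 5, 2, 3, 4, 1, 3, 2]), (0, [6,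 7, 5, 6, 3, 4, 5, 2, 3, 4, 1, 3, 2]), (0, [4, 5, 6, 3, 4, 5, 2, 3, 4, 1, 3, 2]), (0, [7, 4, 5, 6, 3, 4, 5, 2, 3, 4, 1, 3, 2]), (0, [6, 7, 4, 5, 6, 3, 4, 5, 2, 3, 4, 1, 3, 2]), (0, [5, 6, 7, 4, 5, 6, 3, 4, 5, 2, 3, 4, 1, 3, 2]), (0, [1, 3, 4, 5, 2, 3, 4, 1, 3, 2]), (0, [6, 1, 3, 4, 5, 2, 3, 4, 1, 3, 2]), (0, [7, 6, 1, 3, 4, 5, 2, 3, 4, 1, 3, 2]), (0, [5, 6, 1, 3, 4, 5, 2, 3, 4, 1, 3, 2]), (0, [7, 5, 6, 1, 3, 4, 5, 2, 3, 4, 1, 3, 2]), (0, [6, 7, 5, 6, 1, 3, 4, 5, 2, 3, 4, 1, 3, 2]), (0, [4, 5, 6, 1, 3, 4, 5, 2, 3, 4, 1, 3, 2]), (0, [7, 4, 5, 6, 1, 3, 4, 5, 2, 3, 4, 1, 3, 2]), (0, [6, 7, 4, 5, 6, 1, 3, 4, 5, 2, 3, 4, 1, 3, 2]), (0, [5, 6, 7, 4, 5, 6, 1, 3, 4, 5, 2, 3, 4,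 1, 3, 2]), (0, [3, 4, 5, 6, 1, 3, 4, 5, 2, 3, 4, 1, 3, 2]), (0, [7, 3, 4, 5, 6, 1, 3, 4, 5, 2, 3, 4, 1, 3, 2]), (0, [6, 7, 3, 4, 5, 6, 1, 3, 4, 5, 2, 3, 4, 1, 3, 2]), (0, [5, 6, 7, 3, 4, 5, 6, 1, 3, 4, 5, 2, 3, 4, 1, 3, 2]), (0, [4, 5, 6, 7, 3, 4, 5, 6, 1, 3, 4, 5, 2, 3, 4, 1, 3, 2]), (0, [2, 3, 4, 5, 6, 1, 3, 4, 5, 2, 3, 4, 1, 3, 2]), (0, [7, 2, 3, 4, 5, 6, 1, 3, 4, 5, 2, 3, 4, 1, 3, 2]), (0, [6, 7, 2, 3, 4, 5, 6, 1, 3, 4, 5, 2, 3, 4, 1, 3, 2]), (0, [5, 6, 7, 2, 3, 4, 5, 6, 1, 3, 4, 5, 2, 3, 4, 1, 3, 2]), (0, [4, 5, 6, 7, 2, 3, 4, 5, 6, 1, 3, 4, 5, 2, 3, 4, 1, 3, 2]), (0, [3, 4, 5, 6, 7, 2, 3, 4, 5, 6, 1, 3, 4, 5, 2, 3, 4, 1, 3, 2]), (0, [1, 3, 4, 5, 6, 7, 2, 3, 4,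 5, 6, 1, 3, 4, 5, 2, 3, 4, 1, 3, 2]), (0, [0, 2, 3, 4, 5, 6, 1, 3, 4, 5, 2, 3, 4, 1, 3, 2]), (0, [7, 0, 2, 3, 4, 5, 6, 1, 3, 4, 5, 2, 3, 4, 1, 3, 2]), (0, [6, 7, 0, 2, 3, 4, 5, 6, 1, 3, 4, 5, 2, 3, 4, 1, 3, 2]), (0, [5, 6, 7, 0, 2, 3, 4, 5, 6, 1, 3, 4, 5, 2, 3, 4, 1, 3, 2]), (0, [4, 5, 6, 7, 0, 2, 3, 4, 5, 6, 1, 3, 4, 5, 2, 3, 4, 1, 3, 2]), (0, [3, 4, 5, 6, 7, 0, 2, 3, 4, 5, 6, 1, 3, 4, 5, 2, 3, 4, 1, 3, 2]), (0, [2, 3, 4, 5, 6, 7, 0, 2, 3, 4, 5, 6, 1, 3, 4, 5, 2, 3, 4, 1, 3, 2]), (0, [1, 3, 4, 5, 6, 7, 0, 2, 3, 4, 5, 6, 1, 3, 4, 5, 2, 3, 4, 1, 3, 2]), (0, [2, 1, 3, 4, 5, 6, 7, 0, 2, 3, 4, 5, 6, 1, 3, 4, 5, 2, 3, 4, 1, 3, 2]), (0, [3, 2, 1, 3, 4, 5, 6, 7, 0, 2, 3, 4,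 5, 6, 1, 3, 4, 5, 2, 3, 4, 1, 3, 2]), (0, [4, 3, 2, 1, 3, 4, 5, 6, 7, 0, 2, 3, 4, 5, 6, 1, 3, 4, 5, 2, 3, 4, 1, 3, 2]), (0, [5, 4, 3, 2, 1, 3, 4, 5, 6, 7, 0, 2, 3, 4, 5, 6, 1, 3, 4, 5, 2, 3, 4, 1, 3, 2]), (0, [6, 5, 4, 3, 2, 1, 3, 4, 5, 6, 7, 0, 2, 3, 4, 5, 6, 1, 3, 4, 5, 2, 3, 4, 1, 3, 2]), (0, [7, 6, 5, 4, 3, 2, 1, 3, 4, 5, 6, 7, 0, 2, 3, 4, 5, 6, 1, 3, 4, 5, 2, 3, 4, 1, 3, 2])] = true := by decide +kernel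

end Cfsg.Agent.Helper8
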