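import Cfsg.Agent.Helper8.CommBase

set_option autoImplicit false

namespace Cfsg.Agent.Helper8

open Cfsg.Lie

set_option maxRecDepth 100000 in
theorem commB_G2r0_0 : ∀ r, 0 ≤ r → r < 12 → commChkR 0 chevG2 r = true :=
  range_all (commChkR 0 chevG2) 0 12 (by decide +kernel)

theorem commB_G2r0_0_12 : ∀ r, 0 ≤ r → r < 12 → commChkR 0 chevG2 r = true :=
  commB_G2r0_0

set_option maxRecDepth 100000 in
theorem commB_G2r1_0 : ∀ r, 0 ≤ r → r < 12 → commChkR 1 chevG2 r = true :=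
  range_all (commChkR 1 chevG2) 0 12 (by decide +kernel)

theorem commB_G2r1_0_12 : ∀ r, 0 ≤ r → r < 12 → commChkR 1 chevG2 r = true :=
  commB_G2r1_0

set_option maxRecDepth 100000 in
theorem commB_G2r2_0 : ∀ r, 0 ≤ r → r < 12 → commChkR 2 chevG2 r = true :=
  range_all (commChkR 2 chevG2) 0 12 (by decide +kernel)

theorem commB_G2r2_0_12 : ∀ r, 0 ≤ r → r < 12 → commChkR 2 chevG2 r = true :=
  commB_G2r2_0

set_option maxRecDepth 100000 in
theorem commB_G2r3_0 : ∀ r, 0 ≤ r → r < 12 → commChkR 3 chevG2 r = true :=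
  range_all (commChkR 3 chevG2) 0 12 (by decide +kernel)

theorem commB_G2r3_0_12 : ∀ r, 0 ≤ r → r < 12 → commChkR 3 chevG2 r = true :=
  commB_G2r3_0

set_option maxRecDepth 100000 in
theorem commB_G2r4_0 : ∀ r, 0 ≤ r → r < 12 → commChkR 4 chevG2 r = true :=
  range_all (commChkR 4 chevG2) 0 12 (by decide +kernel)

theorem commB_G2r4_0_12 : ∀ r, 0 ≤ r → r < 12 → commChkR 4 chevG2 r = true :=
  commB_G2r4_0

set_option maxRecDepth 100000 in
theorem commB_G2r5_0 : ∀ r, 0 ≤ r → r < 12 → commChkR 5 chevG2 r = true :=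
  range_all (commChkR 5 chevG2) 0 12 (by decide +kernel)

theorem commB_G2r5_0_12 : ∀ r, 0 ≤ r → r < 12 → commChkR 5 chevG2 r = true :=
  commB_G2r5_0

set_option maxRecDepth 100000 in
theorem commB_G2r6_0 : ∀ r, 0 ≤ r → r < 12 → commChkR 6 chevG2 r = true :=
  range_all (commChkR 6 chevG2) 0 12 (by decide +kernel)

theorem commB_G2r6_0_12 : ∀ r, 0 ≤ r → r < 12 → commChkR 6 chevG2 r = true :=
  commB_G2r6_0

set_option maxRecDepth 100000 in
theorem commB_G2r7_0 : ∀ r, 0 ≤ r → r < 12 → commChkR 7 chevG2 r = true :=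
  range_all (commChkR 7 chevG2) 0 12 (by decide +kernel)

theorem commB_G2r7_0_12 : ∀ r, 0 ≤ r → r < 12 → commChkR 7 chevG2 r = true :=
  commB_G2r7_0

set_option maxRecDepth 100000 in
theorem commB_G2r8_0 : ∀ r, 0 ≤ r → r < 12 → commChkR 8 chevG2 r = true :=
  range_all (commChkR 8 chevG2) 0 12 (by decide +kernel)

theorem commB_G2r8_0_12 : ∀ r, 0 ≤ r → r < 12 → commChkR 8 chevG2 r = true :=
  commB_G2r8_0

set_option maxRecDepth 100000 in
theorem commB_G2r9_0 : ∀ r, 0 ≤ r → r < 12 → commChkR 9 chevG2 r = true :=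
  range_all (commChkR 9 chevG2) 0 12 (by decide +kernel)

theorem commB_G2r9_0_12 : ∀ r, 0 ≤ r → r < 12 → commChkR 9 chevG2 r = true :=
  commB_G2r9_0

set_option maxRecDepth 100000 in
theorem commB_G2r10_0 : ∀ r, 0 ≤ r → r < 12 → commChkR 10 chevG2 r = true :=
  range_all (commChkR 10 chevG2) 0 12 (by decide +kernel)

theorem commB_G2r10_0_12 : ∀ r, 0 ≤ r → r < 12 → commChkR 10 chevG2 r = true :=
  commB_G2r10_0

set_option maxRecDepth 100000 in
theorem commB_G2r11_0 : ∀ r, 0 ≤ r → r < 12 → commChkR 11 chevG2 r = true :=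
  range_all (commChkR 11 chevG2) 0 12 (by decide +kernel)

theorem commB_G2r11_0_12 : ∀ r, 0 ≤ r → r < 12 → commChkR 11 chevG2 r = true :=
  commB_G2r11_0

set_option maxRecDepth 100000 in
theorem commB_B2a_0 : ∀ r, 0 ≤ r → r < 8 → commChkJ 0 chevB2 r = true :=
  range_all (commChkJ 0 chevB2) 0 8 (by decide +kernel)

theorem commB_B2a_0_8 : ∀ r, 0 ≤ r → r < 8 → commChkJ 0 chevB2 r = true :=
  commB_B2a_0

set_option maxRecDepth 100000 in
theorem commB_B2b_0 : ∀ r, 0 ≤ r → r < 8 → commChkJ 1 chevB2 r = true :=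
  range_all (commChkJ 1 chevB2) 0 8 (by decide +kernel)

theorem commB_B2b_0_8 : ∀ r, 0 ≤ r → r < 8 → commChkJ 1 chevB2 r = true :=
  commB_B2b_0

set_option maxRecDepth 100000 in
theorem commB_D4_0 : ∀ r, 0 ≤ r → r < 24 → commChkJ 0 chevD4 r = true :=
  range_all (commChkJ 0 chevD4) 0 24 (by decide +kernel)

theorem commB_D4_0_24 : ∀ r, 0 ≤ r → r < 24 → commChkJ 0 chevD4 r = true :=
  commB_D4_0

end Cfsg.Agent.Helper8
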