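import Cfsg.Agent.Helper8.Ord6

set_option autoImplicit false

namespace Cfsg.Agent.Helper8

open Cfsg.Lie

set_option maxRecDepth 100000 in
theorem kerChk_G2 : kerChk chevG2 [] [] [] [] [[2, 1], [3, 2]] = true := by
  decide +kernel

set_option maxRecDepth 100000 in
theorem kerChk_B2 : kerChk chevB2 [2] [[1, 2]] [[1, 0]] [[2, 1]] [[0, 0], [-1, 0]] = true := by
  decide +kernel

set_option maxRecDepth 100000 in
theorem kerChk_D4 : kerChk chevD4 [2, 2] [[-3, -2, -1, 0], [2, 2, 1, 1]] [[0, 0, -1, 1], [0, 0, 0, 1]] [[0, 0, -1, 1], [1, 2, 1, 2]] [[0, -1, -2, 0], [0, 0, -1, 0], [0, 0, 0, 0], [0, 0, 0, 0]] = true := by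
  decide +kernel

set_option maxRecDepth 100000 in
theorem kerChk_F4 : kerChk chevF4 [] [] [] [] [[2, 3, 2, 1], [3, 6, 4, 2], [4, 8, 6, 3], [2, 4, 3, 2]] = true := by
  decide +kernel

set_option maxRecDepth 100000 in
theorem kerChk_E6 : kerChk chevE6 [3] [[-5, 0, -4, -3, -2, -1]] [[0, 0, 0, 0, 0, -1]] [[-2, -3, -4, -6, -5, -4]] [[-2, -4, -5, -8, -7, -6], [1, 2, 2, 3, 2, 1], [-1, -2, -2, -4, -4, -4], [0, 0, 0, 0, -1, -2], [0, 0, 0, 0, 0, -1], [0, 0, 0, 0, 0, 0]] = true := by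
  decide +kernel

set_option maxRecDepth 100000 in
theorem kerChk_E7 : kerChk chevE7 [2] [[-4, -1, -4, -4, -3, -2, -1]] [[0, 0, 0, 0, 0, 0, -1]] [[-2, -3, -4, -6, -5, -4, -3]] [[-2, -4, -5, -8, -7, -6, -5], [1, 2, 2, 3, 2, 1, 0], [-1, -2, -2, -4, -4, -4, -4], [0, 0, 0, 0, -1, -2, -3], [0, 0, 0, 0, 0, -1, -2], [0, 0, 0, 0, 0, 0, -1], [0, 0, 0, 0, 0, 0, 0]] = true := by
  decide +kernel

set_option maxRecDepth 100000 in
theorem kerChk_E8 : kerChk chevE8 [] [] [] [] [[4, 5, 7, 10, 8, 6, 4, 2], [5, 8, 10, 15, 12, 9, 6, 3], [7, 10, 14, 20, 16, 12, 8, 4], [10, 15, 20, 30, 24, 18, 12, 6], [8, 12, 16, 24, 20, 15, 10, 5], [6, 9, 12, 18, 15, 12, 8, 4], [4, 6, 8, 12, 10, 8, 6, 3], [2, 3, 4, 6, 5, 4, 3, 2]] = true := by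
  decide +kernel

variable {F : Type*} [Field F] [Fintype F]

theorem diag_card_G2 : 1 * Nat.card (chevG2.diagonalSubgroup F) = (Fintype.card F - 1) ^ chevG2.rank := by
  have h := diag_card (F := F) chevG2 (by simp [Std7]) _ _ _ _ _ kerChk_G2
  simpa using h

theorem diag_card_F4 : 1 * Nat.card (chevF4.diagonalSubgroup F) = (Fintype.card F - 1) ^ chevF4.rank := by
  have h := diag_card (F := F) chevF4 (by simp [Std7]) _ _ _ _ _ kerChk_F4
  simpa using h

theorem diag_card_E8 : 1 * Nat.card (chevE8.diagonalSubgroup F) = (Fintype.card F - 1) ^ chevE8.rank := by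
  have h := diag_card (F := F) chevE8 (by simp [Std7]) _ _ _ _ _ kerChk_E8
  simpa using h

theorem diag_card_E6 : Nat.gcd 3 (Fintype.card F - 1) * Nat.card (chevE6.diagonalSubgroup F) = (Fintype.card F - 1) ^ chevE6.rank := by
  have h := diag_card (F := F) chevE6 (by simp [Std7]) _ _ _ _ _ kerChk_E6
  simpa using h

theorem diag_card_E7 : Nat.gcd 2 (Fintype.card F - 1) * Nat.card (chevE7.diagonalSubgroup F) = (Fintype.card F - 1) ^ chevE7.rank := by
  have h := diag_card (F := F) chevE7 (by simp [Std7]) _ _ _ _ _ kerChk_E7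
  simpa using h

theorem diag_card_B2 : Nat.gcd 2 (Fintype.card F - 1) * Nat.card (chevB2.diagonalSubgroup F) = (Fintype.card F - 1) ^ chevB2.rank := by
  have h := diag_card (F := F) chevB2 (by simp [Std7]) _ _ _ _ _ kerChk_B2
  simpa using h

theorem diag_card_D4 : Nat.gcd 2 (Fintype.card F - 1) ^ 2 * Nat.card (chevD4.diagonalSubgroup F) = (Fintype.card F - 1) ^ chevD4.rank := by
  have h := diag_card (F := F) chevD4 (by simp [Std7]) _ _ _ _ _ kerChk_D4
  rw [pow_two]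
  simpa [Finset.prod_range_succ] using h

end Cfsg.Agent.Helper8
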