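import Cfsg.Agent.Helper8.GA2

set_option autoImplicit false

namespace Cfsg.Agent.Helper8

open Cfsg.Lie

/-- The graph automorphism data, case E6. -/
def gaE6 : GAData := ⟨[5, 1, 4, 3, 2, 0], [5, 1, 4, 3, 2, 0], [0, 1, 2, 5, 16, 3, 6, 17, 8, 19, 22, 11, 26, 30, 33, 35, 4, 7, 18, 9, 20, 23, 10, 21, 24, 25, 12, 27, 31, 34, 13, 28, 32, 14, 29, 15, 56, 42, 57, 39, 43, 58, 37, 40, 44, 59, 46, 47, 50, 61, 48, 51, 62, 53, 64, 67, 36, 38, 41, 45, 60, 49, 52, 63, 54, 65, 68, 55, 66, 69, 70, 71], [0, 1, 2, 5, 16, 3, 6, 17, 8, 19, 22, 11, 26, 30, 33, 35, 4, 7, 18, 9, 20, 23, 10, 21, 24, 25, 12, 27, 31, 34, 13, 28, 32, 14, 29, 15, 56, 42, 57, 39, 43, 58, 37, 40, 44, 59, 46, 47, 50, 61, 48, 51, 62, 53, 64, 67, 36, 38, 41, 45, 60, 49, 52, 63, 54, 65, 68, 55, 66, 69, 70, 71], [1, 1, 1, 1, -1, 1, 1, -1, 1, -1, -1, 1, -1, 1, -1,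 1, -1, -1, 1, -1, 1, 1, -1, 1, 1, 1, -1, 1, -1, 1, 1, -1, 1, -1, 1, 1, 1, 1, -1, 1, -1, 1, 1, -1, 1, -1, 1, 1, 1, -1, 1, 1, -1, 1, -1, -1, 1, -1, 1, -1, 1, -1, -1, 1, -1, 1, 1, -1, 1, 1, 1, 1]⟩

theorem gaPerm_E6 : gaPermChk chevE6 gaE6 = true := by decide +kernel

set_option maxRecDepth 100000 in
theorem gaRoot_E6 : ∀ i, 0 ≤ i → i < 0 + 6 → gaSimpleChk chevE6 gaE6 i = true :=
  range_all (gaSimpleChk chevE6 gaE6) 0 6 (by decide +kernel)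

/-- The graph automorphism data, case D4a. -/
def gaD4a : GAData := ⟨[2, 1, 3, 0], [3, 1, 0, 2], [0, 1, 6, 2, 7, 10, 3, 8, 4, 9, 11, 5, 18, 12, 14, 19, 15, 20, 13, 16, 21, 17, 22, 23], [0, 1, 3, 6, 8, 11, 2, 4, 7, 9, 5, 10, 13, 18, 14, 16, 19, 21, 12, 15, 17, 20, 22, 23], [1, 1, -1, 1, -1, 1, -1, 1, -1, 1, 1, 1, 1, 1, 1, -1, 1, -1, 1, -1, 1, -1, 1, 1]⟩

theorem gaPerm_D4a : gaPermChk chevD4 gaD4a = true := by decide +kernel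

set_option maxRecDepth 100000 in
theorem gaRoot_D4a : ∀ i, 0 ≤ i → i < 0 + 4 → gaSimpleChk chevD4 gaD4a i = true :=
  range_all (gaSimpleChk chevD4 gaD4a) 0 4 (by decide +kernel)

/-- The graph automorphism data, case D4b. -/
def gaD4b : GAData := ⟨[3, 1, 0, 2], [2, 1, 3, 0], [0, 1, 3, 6, 8, 11, 2, 4, 7, 9, 5, 10, 13, 18, 14, 16, 19, 21, 12, 15, 17, 20, 22, 23], [0, 1, 6, 2, 7, 10, 3, 8, 4, 9, 11, 5, 18, 12, 14, 19, 15, 20, 13, 16, 21, 17, 22, 23], [1, 1, 1, -1, -1, 1, -1, -1, 1, 1, 1, 1, 1, 1, 1, 1, -1, -1, 1, -1, -1, 1, 1, 1]⟩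

theorem gaPerm_D4b : gaPermChk chevD4 gaD4b = true := by decide +kernel

set_option maxRecDepth 100000 in
theorem gaRoot_D4b : ∀ i, 0 ≤ i → i < 0 + 4 → gaSimpleChk chevD4 gaD4b i = true :=
  range_all (gaSimpleChk chevD4 gaD4b) 0 4 (by decide +kernel)

end Cfsg.Agent.Helper8
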