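import Mathlib
import Cfsg.Prelude.Def_LinearParabolics

set_option autoImplicit false

namespace Cfsg.Agent.Helper8

open Matrix

variable {F : Type*} [Field F] {n : ℕ}

/-! ### Permutation matrices and the Bruhat decomposition of `GL n` -/

/-- The permutation matrix of `σ`: column `j` has its `1` in row `σ j`. -/
def pmat (F : Type*) [Field F] {n : ℕ} (σ : Equiv.Perm (Fin n)) : Matrix (Fin n) (Fin n) F :=
  Matrix.of fun i j => if i = σ j then 1 else 0

theorem pmat_apply (σ : Equiv.Perm (Fin n)) (i j : Fin n) : pmat F σ i j = if i = σ j then 1 else 0 := rfl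

theorem pmat_one : pmat F (1 : Equiv.Perm (Fin n)) = 1 := by
  ext i j
  rw [pmat_apply, Matrix.one_apply]
  rfl

theorem pmat_mul (σ τ : Equiv.Perm (Fin n)) : pmat F σ * pmat F τ = pmat F (σ * τ) := by
  ext i k
  rw [Matrix.mul_apply, Finset.sum_eq_single (τ k)]
  · rw [pmat_apply, pmat_apply, pmat_apply, if_pos rfl, mul_one]
    rfl
  · intro j _ hj
    rw [pmat_apply (F := F) τ, if_neg hj, mul_zero]
  · intro h
    exact absurd (Finset.mem_univ _) h

/-- Permutation matrices as a monoid homomorphism. -/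
def permHom (F : Type*) [Field F] (n : ℕ) : Equiv.Perm (Fin n) →* Matrix (Fin n) (Fin n) F where
  toFun := pmat F
  map_one' := pmat_one
  map_mul' := fun σ τ => (pmat_mul σ τ).symm

/-- Permutation matrices as elements of the general linear group. -/
def permGL (F : Type*) [Field F] (n : ℕ) : Equiv.Perm (Fin n) →* GL (Fin n) F := (permHom F n).toHomUnits

theorem permGL_val (σ : Equiv.Perm (Fin n)) :
    ((permGL F n σ : GL (Fin n) F) : Matrix (Fin n) (Fin n) F) = pmat F σ := rfl

theorem gl_det_ne_zero (m : GL (Fin n) F) : (m : Matrix (Fin n) (Fin n) F).det ≠ 0 := by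
  have h : IsUnit (m : Matrix (Fin n) (Fin n) F).det := (Matrix.isUnit_iff_isUnit_det _).mp m.isUnit
  exact h.ne_zero

theorem transvection_upper (i j : Fin n) (hij : i < j) (c : F) :
    (Matrix.transvection i j c).BlockTriangular id := by
  intro a b hab
  have hab' : b < a := hab
  unfold Matrix.transvection
  rw [Matrix.add_apply, Matrix.one_apply_ne (ne_of_gt hab'), zero_add, Matrix.single_apply, if_neg]
  rintro ⟨rfl, rfl⟩
  exact absurd hab' (not_lt.mpr (le_of_lt hij))

/-- A transvection as an element of the general linear group. -/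
noncomputable def tvGL (i j : Fin n) (hij : i ≠ j) (c : F) : GL (Fin n) F :=
  Matrix.GeneralLinearGroup.mkOfDetNeZero (Matrix.transvection i j c) (by
    rw [Matrix.det_transvection_of_ne i j hij]
    exact one_ne_zero)

theorem tvGL_val (i j : Fin n) (hij : i ≠ j) (c : F) :
    ((tvGL i j hij c : GL (Fin n) F) : Matrix (Fin n) (Fin n) F) = Matrix.transvection i j c := rfl

/-- `m ∈ B g B` for the upper triangular group `B`. -/
def InBB (g m : GL (Fin n) F) : Prop :=
  ∃ u ∈ Cfsg.upperTriangularGL n F, ∃ u' ∈ Cfsg.upperTriangularGL n F, m = u * g * u'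

theorem inBB_refl (g : GL (Fin n) F) : InBB g g := ⟨1, one_mem _, 1, one_mem _, by group⟩

theorem inBB_left {g m : GL (Fin n) F} (h : InBB g m) (v : GL (Fin n) F) (hv : v ∈ Cfsg.upperTriangularGL n F) :
    InBB g (v * m) := by
  obtain ⟨u, hu, u', hu', rfl⟩ := h
  exact ⟨v * u, mul_mem hv hu, u', hu', by group⟩

theorem inBB_right {g m : GL (Fin n) F} (h : InBB g m) (v : GL (Fin n) F) (hv : v ∈ Cfsg.upperTriangularGL n F) :
    InBB g (m * v) := by
  obtain ⟨u, hu, u', hu', rfl⟩ := h
  exact ⟨u, hu, u' * v, mul_mem hu' hv, by group⟩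

/-- The first `j` columns of `m` have exactly one nonzero entry each. -/
def CleanTo (j : ℕ) (m : GL (Fin n) F) : Prop :=
  ∀ k : Fin n, k.val < j → ∃ i, (m : Matrix (Fin n) (Fin n) F) i k ≠ 0 ∧
    ∀ i', (m : Matrix (Fin n) (Fin n) F) i' k ≠ 0 → i' = i

open Classical in
/-- The number of nonzero entries in column `k`. -/
noncomputable def colCnt (m : GL (Fin n) F) (k : Fin n) : ℕ :=
  (Finset.univ.filter (fun i => (m : Matrix (Fin n) (Fin n) F) i k ≠ 0)).card

theorem clean_step (g : GL (Fin n) F) (j : ℕ) (hj : j < n) (h : ∃ m, InBB g m ∧ CleanTo j m) :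
    ∃ m, InBB g m ∧ CleanTo (j + 1) m := by
  classical
  have hex : ∃ c, ∃ m, InBB g m ∧ CleanTo j m ∧ colCnt m ⟨j, hj⟩ = c := by
    obtain ⟨m, h1, h2⟩ := h
    exact ⟨_, m, h1, h2, rfl⟩
  obtain ⟨m, hm1, hm2, hm3⟩ := Nat.find_spec hex
  have hmin : ∀ m', InBB g m' → CleanTo j m' → Nat.find hex ≤ colCnt m' ⟨j, hj⟩ :=
    fun m' h1 h2 => Nat.find_min' hex ⟨m', h1, h2, rfl⟩
  refine ⟨m, hm1, ?_⟩
  intro k hk
  rcases Nat.lt_succ_iff_lt_or_eq.mp hk with hk' | hk'
  · exact hm2 k hk'
  · have hkj : k = ⟨j, hj⟩ := Fin.ext hk'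
    rw [hkj]
    have hne : ∃ i, (m : Matrix (Fin n) (Fin n) F) i ⟨j, hj⟩ ≠ 0 := by
      by_contra hcon
      push_neg at hcon
      exact gl_det_ne_zero m (Matrix.det_eq_zero_of_column_eq_zero (⟨j, hj⟩ : Fin n) hcon)
    have key : ∀ a b : Fin n, a < b → (m : Matrix (Fin n) (Fin n) F) a ⟨j, hj⟩ ≠ 0 →
        (m : Matrix (Fin n) (Fin n) F) b ⟨j, hj⟩ ≠ 0 → False := by
      intro a b hab ha hb
      by_cases hA : ∃ k : Fin n, k.val < j ∧ (m : Matrix (Fin n) (Fin n) F) b k ≠ 0
      · obtain ⟨k, hkj', hbk⟩ := hA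
        obtain ⟨r, hr, hruniq⟩ := hm2 k hkj'
        have hbr : b = r := hruniq b hbk
        have hkne : k ≠ ⟨j, hj⟩ := fun e => by
          rw [e] at hkj'
          exact lt_irrefl _ hkj'
        have hklt : k < (⟨j, hj⟩ : Fin n) := hkj'
        obtain ⟨c, hc⟩ : ∃ c : F, (m : Matrix (Fin n) (Fin n) F) b ⟨j, hj⟩ +
            c * (m : Matrix (Fin n) (Fin n) F) b k = 0 :=
          ⟨-((m : Matrix (Fin n) (Fin n) F) b ⟨j, hj⟩ / (m : Matrix (Fin n) (Fin n) F) b k), by
            rw [neg_mul, div_mul_cancel₀ _ hbk, add_neg_cancel]⟩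
        have hT : tvGL k ⟨j, hj⟩ hkne c ∈ Cfsg.upperTriangularGL n F := transvection_upper k ⟨j, hj⟩ hklt c
        have hm'1 : InBB g (m * tvGL k ⟨j, hj⟩ hkne c) := inBB_right hm1 _ hT
        have hent1 : ∀ x y, y ≠ (⟨j, hj⟩ : Fin n) →
            ((m * tvGL k ⟨j, hj⟩ hkne c : GL (Fin n) F) : Matrix (Fin n) (Fin n) F) x y =
              (m : Matrix (Fin n) (Fin n) F) x y := by
          intro x y hy
          rw [Units.val_mul, tvGL_val]
          exact Matrix.mul_transvection_apply_of_ne k ⟨j, hj⟩ x y hy c _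
        have hent2 : ∀ x, ((m * tvGL k ⟨j, hj⟩ hkne c : GL (Fin n) F) : Matrix (Fin n) (Fin n) F) x ⟨j, hj⟩ =
            (m : Matrix (Fin n) (Fin n) F) x ⟨j, hj⟩ + c * (m : Matrix (Fin n) (Fin n) F) x k := by
          intro x
          rw [Units.val_mul, tvGL_val]
          exact Matrix.mul_transvection_apply_same k ⟨j, hj⟩ x c _
        have hm'2 : CleanTo j (m * tvGL k ⟨j, hj⟩ hkne c) := by
          intro k' hk''
          have hk'ne : k' ≠ ⟨j, hj⟩ := fun e => by
            rw [e] at hk''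
            exact lt_irrefl _ hk''
          obtain ⟨r', hr', hr'u⟩ := hm2 k' hk''
          refine ⟨r', by rw [hent1 _ _ hk'ne]; exact hr', fun i' hi' => hr'u i' ?_⟩
          rw [hent1 _ _ hk'ne] at hi'
          exact hi'
        have hlt : colCnt (m * tvGL k ⟨j, hj⟩ hkne c) ⟨j, hj⟩ < colCnt m ⟨j, hj⟩ := by
          unfold colCnt
          apply Finset.card_lt_card
          refine (Finset.ssubset_iff_of_subset ?_).mpr ⟨b, ?_, ?_⟩
          · intro x hx
            rw [Finset.mem_filter] at hx ⊢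
            refine ⟨Finset.mem_univ _, ?_⟩
            have hx2 := hx.2
            rw [hent2] at hx2
            by_cases hxb : x = b
            · rw [hxb]
              exact hb
            · have hxk : (m : Matrix (Fin n) (Fin n) F) x k = 0 := by
                by_contra hh
                exact hxb ((hruniq x hh).trans hbr.symm)
              rwa [hxk, mul_zero, add_zero] at hx2
          · exact Finset.mem_filter.mpr ⟨Finset.mem_univ _, hb⟩
          · rw [Finset.mem_filter, not_and, not_not]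
            intro _
            rw [hent2, hc]
        have h5 := hmin _ hm'1 hm'2
        omega
      · push_neg at hA
        have habne : a ≠ b := ne_of_lt hab
        obtain ⟨c, hc⟩ : ∃ c : F, (m : Matrix (Fin n) (Fin n) F) a ⟨j, hj⟩ +
            c * (m : Matrix (Fin n) (Fin n) F) b ⟨j, hj⟩ = 0 :=
          ⟨-((m : Matrix (Fin n) (Fin n) F) a ⟨j, hj⟩ / (m : Matrix (Fin n) (Fin n) F) b ⟨j, hj⟩), by
            rw [neg_mul, div_mul_cancel₀ _ hb, add_neg_cancel]⟩
        have hT : tvGL a b habne c ∈ Cfsg.upperTriangularGL n F := transvection_upper a b hab c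
        have hm'1 : InBB g (tvGL a b habne c * m) := inBB_left hm1 _ hT
        have hent1 : ∀ x y, x ≠ a →
            ((tvGL a b habne c * m : GL (Fin n) F) : Matrix (Fin n) (Fin n) F) x y =
              (m : Matrix (Fin n) (Fin n) F) x y := by
          intro x y hx
          rw [Units.val_mul, tvGL_val]
          exact Matrix.transvection_mul_apply_of_ne a b x y hx c _
        have hent2 : ∀ y, ((tvGL a b habne c * m : GL (Fin n) F) : Matrix (Fin n) (Fin n) F) a y =
            (m : Matrix (Fin n) (Fin n) F) a y + c * (m : Matrix (Fin n) (Fin n) F) b y := by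
          intro y
          rw [Units.val_mul, tvGL_val]
          exact Matrix.transvection_mul_apply_same a b y c _
        have hsame : ∀ x (y : Fin n), y.val < j →
            ((tvGL a b habne c * m : GL (Fin n) F) : Matrix (Fin n) (Fin n) F) x y =
              (m : Matrix (Fin n) (Fin n) F) x y := by
          intro x y hy
          by_cases hx : x = a
          · rw [hx, hent2, hA y hy, mul_zero, add_zero]
          · exact hent1 x y hx
        have hm'2 : CleanTo j (tvGL a b habne c * m) := by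
          intro k' hk''
          obtain ⟨r', hr', hr'u⟩ := hm2 k' hk''
          refine ⟨r', by rw [hsame _ _ hk'']; exact hr', fun i' hi' => hr'u i' ?_⟩
          rw [hsame _ _ hk''] at hi'
          exact hi'
        have hlt : colCnt (tvGL a b habne c * m) ⟨j, hj⟩ < colCnt m ⟨j, hj⟩ := by
          unfold colCnt
          apply Finset.card_lt_card
          refine (Finset.ssubset_iff_of_subset ?_).mpr ⟨a, ?_, ?_⟩
          · intro x hx
            rw [Finset.mem_filter] at hx ⊢
            refine ⟨Finset.mem_univ _, ?_⟩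
            by_cases hxa : x = a
            · rw [hxa]
              exact ha
            · have hx2 := hx.2
              rwa [hent1 x _ hxa] at hx2
          · exact Finset.mem_filter.mpr ⟨Finset.mem_univ _, ha⟩
          · rw [Finset.mem_filter, not_and, not_not]
            intro _
            rw [hent2, hc]
        have h5 := hmin _ hm'1 hm'2
        omega
    obtain ⟨i₀, hi₀⟩ := hne
    refine ⟨i₀, hi₀, ?_⟩
    intro i₁ hi₁
    by_contra hne'
    rcases lt_or_gt_of_ne hne' with hlt | hgt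
    · exact key i₁ i₀ hlt hi₁ hi₀
    · exact key i₀ i₁ hgt hi₀ hi₁

theorem exists_clean (g : GL (Fin n) F) : ∀ j, j ≤ n → ∃ m, InBB g m ∧ CleanTo j m := by
  intro j
  induction j with
  | zero =>
    intro _
    exact ⟨g, inBB_refl g, fun k hk => absurd hk (Nat.not_lt_zero _)⟩
  | succ j ih =>
    intro hj
    exact clean_step g j (Nat.lt_of_succ_le hj) (ih (Nat.le_of_succ_le hj))

/-- The Bruhat decomposition of the general linear group: `g = u w u'`, `u, u'` upper triangular, `w` a
permutation matrix. -/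
theorem bruhat_gl (g : GL (Fin n) F) :
    ∃ u ∈ Cfsg.upperTriangularGL n F, ∃ u' ∈ Cfsg.upperTriangularGL n F, ∃ σ : Equiv.Perm (Fin n),
      g = u * permGL F n σ * u' := by
  classical
  obtain ⟨m, ⟨u, hu, u', hu', hm⟩, hclean⟩ := exists_clean g n le_rfl
  have hcl : ∀ k : Fin n, ∃ i, (m : Matrix (Fin n) (Fin n) F) i k ≠ 0 ∧
      ∀ i', (m : Matrix (Fin n) (Fin n) F) i' k ≠ 0 → i' = i := fun k => hclean k k.2
  choose f hf1 hf2 using hcl
  have hsurj : Function.Surjective f := by
    by_contra hns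
    rw [Function.Surjective] at hns
    push_neg at hns
    obtain ⟨r, hr⟩ := hns
    apply gl_det_ne_zero m
    apply Matrix.det_eq_zero_of_row_eq_zero r
    intro k
    by_contra hne
    exact hr k (hf2 k r hne).symm
  have hbij : Function.Bijective f := ⟨Finite.injective_iff_surjective.mpr hsurj, hsurj⟩
  have hd : ∀ k, (m : Matrix (Fin n) (Fin n) F) (f k) k ≠ 0 := fun k => hf1 k
  have hdet : (Matrix.diagonal (fun k => (m : Matrix (Fin n) (Fin n) F) (f k) k)).det ≠ 0 := by
    rw [Matrix.det_diagonal]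
    exact Finset.prod_ne_zero_iff.mpr (fun k _ => hd k)
  have hDg : Matrix.GeneralLinearGroup.mkOfDetNeZero _ hdet ∈ Cfsg.upperTriangularGL n F := by
    show (Matrix.diagonal (fun k => (m : Matrix (Fin n) (Fin n) F) (f k) k)).BlockTriangular id
    exact Matrix.blockTriangular_diagonal _
  have hmeq : m = permGL F n (Equiv.ofBijective f hbij) * Matrix.GeneralLinearGroup.mkOfDetNeZero _ hdet := by
    apply Units.ext
    ext i k
    rw [Units.val_mul]
    show (m : Matrix (Fin n) (Fin n) F) i k =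
      (pmat F (Equiv.ofBijective f hbij) * Matrix.diagonal (fun k => (m : Matrix (Fin n) (Fin n) F) (f k) k)) i k
    rw [Matrix.mul_diagonal, pmat_apply]
    by_cases hik : i = (Equiv.ofBijective f hbij) k
    · rw [if_pos hik, one_mul, hik]
      rfl
    · rw [if_neg hik, zero_mul]
      by_contra hne
      exact hik (hf2 k i hne)
  refine ⟨u⁻¹, inv_mem hu, Matrix.GeneralLinearGroup.mkOfDetNeZero _ hdet * u'⁻¹, mul_mem hDg (inv_mem hu'),
    Equiv.ofBijective f hbij, ?_⟩
  have e : g = u⁻¹ * m * u'⁻¹ := by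
    rw [hm]
    group
  rw [e]
  exact (congrArg (fun x => u⁻¹ * x * u'⁻¹) hmeq).trans (by group)

/-! ### Parabolic and Young subgroups -/

theorem compLabel_mono (μ : Fin n → ℕ) : Monotone (Cfsg.compLabel μ) := by
  intro i j hij
  unfold Cfsg.compLabel
  apply Finset.card_le_card
  intro x hx
  rw [Finset.mem_filter] at hx ⊢
  exact ⟨hx.1, le_trans hx.2 (Fin.le_def.mp hij)⟩

theorem upper_le_parabolic (μ : Fin n → ℕ) : Cfsg.upperTriangularGL n F ≤ Cfsg.parabolicGL n F μ := by
  intro g hg
  show (g : Matrix (Fin n) (Fin n) F).BlockTriangular (Cfsg.compLabel μ)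
  intro i j hij
  have hg' : (g : Matrix (Fin n) (Fin n) F).BlockTriangular id := hg
  apply hg'
  show j < i
  by_contra h
  exact absurd (compLabel_mono μ (not_lt.mp h)) (not_le.mpr hij)

theorem permGL_mem_parabolic (μ : Fin n → ℕ) (x : Equiv.Perm (Fin n)) (hx : x ∈ Cfsg.youngSubgroup μ) :
    permGL F n x ∈ Cfsg.parabolicGL n F μ := by
  show (pmat F x).BlockTriangular (Cfsg.compLabel μ)
  intro i j hij
  rw [pmat_apply, if_neg]
  intro e
  have hx' : Cfsg.compLabel μ (x j) = Cfsg.compLabel μ j := hx j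
  rw [e, hx'] at hij
  exact lt_irrefl _ hij

theorem perm_le_eq (π : Equiv.Perm (Fin n)) (b : Fin n → ℕ) (h : ∀ i, b (π i) ≤ b i) : ∀ i, b (π i) = b i := by
  have hsum : ∑ i, b (π i) = ∑ i, b i := Equiv.sum_comp π b
  intro i
  exact (Finset.sum_eq_sum_iff_of_le (fun i _ => h i)).mp hsum i (Finset.mem_univ i)

/-- Permutation matrices in the same double coset of parabolic subgroups come from permutations in the same
double coset of the Young subgroups. -/
theorem perm_rel (ν μ : Fin n → ℕ) (σ σ' : Equiv.Perm (Fin n)) (q p : GL (Fin n) F)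
    (hq : q ∈ Cfsg.parabolicGL n F ν) (hp : p ∈ Cfsg.parabolicGL n F μ)
    (heq : permGL F n σ' = q * permGL F n σ * p) :
    ∃ x ∈ Cfsg.youngSubgroup ν, ∃ y ∈ Cfsg.youngSubgroup μ, σ' = x * σ * y := by
  classical
  have hp' : p⁻¹ ∈ Cfsg.parabolicGL n F μ := inv_mem hp
  have hq' : (q : Matrix (Fin n) (Fin n) F).BlockTriangular (Cfsg.compLabel ν) := hq
  have hp'' : ((p⁻¹ : GL (Fin n) F) : Matrix (Fin n) (Fin n) F).BlockTriangular (Cfsg.compLabel μ) := hp'
  have e1 : q * permGL F n σ = permGL F n σ' * p⁻¹ := by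
    rw [heq]
    group
  have e2 : ∀ k j, (q : Matrix (Fin n) (Fin n) F) (σ' k) (σ j) =
      ((p⁻¹ : GL (Fin n) F) : Matrix (Fin n) (Fin n) F) k j := by
    intro k j
    have h : ((q * permGL F n σ : GL (Fin n) F) : Matrix (Fin n) (Fin n) F) (σ' k) j =
        ((permGL F n σ' * p⁻¹ : GL (Fin n) F) : Matrix (Fin n) (Fin n) F) (σ' k) j := by rw [e1]
    rw [Units.val_mul, Units.val_mul, permGL_val, permGL_val, Matrix.mul_apply, Matrix.mul_apply] at h
    have s1 : ∑ l, (q : Matrix (Fin n) (Fin n) F) (σ' k) l * pmat F σ l j =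
        (q : Matrix (Fin n) (Fin n) F) (σ' k) (σ j) := by
      rw [Finset.sum_eq_single (σ j)]
      · rw [pmat_apply, if_pos rfl, mul_one]
      · intro l _ hl
        rw [pmat_apply, if_neg hl, mul_zero]
      · intro h'
        exact absurd (Finset.mem_univ _) h'
    have s2 : ∑ l, pmat F σ' (σ' k) l * ((p⁻¹ : GL (Fin n) F) : Matrix (Fin n) (Fin n) F) l j =
        ((p⁻¹ : GL (Fin n) F) : Matrix (Fin n) (Fin n) F) k j := by
      rw [Finset.sum_eq_single k]
      · rw [pmat_apply, if_pos rfl, one_mul]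
      · intro l _ hl
        rw [pmat_apply, if_neg (fun e => hl (σ'.injective e).symm), zero_mul]
      · intro h'
        exact absurd (Finset.mem_univ _) h'
    rw [s1, s2] at h
    exact h
  have hdet := gl_det_ne_zero q
  rw [Matrix.det_apply'] at hdet
  obtain ⟨π, -, hπ⟩ := Finset.exists_ne_zero_of_sum_ne_zero hdet
  have hπ' : ∀ i, (q : Matrix (Fin n) (Fin n) F) (π i) i ≠ 0 := by
    intro i
    have h2 : ∏ i, (q : Matrix (Fin n) (Fin n) F) (π i) i ≠ 0 := fun h0 => hπ (by rw [h0, mul_zero])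
    exact Finset.prod_ne_zero_iff.mp h2 i (Finset.mem_univ i)
  have hb : ∀ i, Cfsg.compLabel ν (π i) ≤ Cfsg.compLabel ν i := by
    intro i
    by_contra hlt
    exact hπ' i (hq' (not_le.mp hlt))
  have hbeq : ∀ i, Cfsg.compLabel ν (π i) = Cfsg.compLabel ν i := perm_le_eq π _ hb
  have hc : ∀ j, Cfsg.compLabel μ ((σ'⁻¹ * π * σ) j) ≤ Cfsg.compLabel μ j := by
    intro j
    by_contra hlt
    have h0 := hp'' (not_le.mp hlt)
    rw [← e2] at h0
    have e3 : σ' ((σ'⁻¹ * π * σ) j) = π (σ j) := by simp [Equiv.Perm.mul_apply]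
    rw [e3] at h0
    exact hπ' (σ j) h0
  have hceq : ∀ j, Cfsg.compLabel μ ((σ'⁻¹ * π * σ) j) = Cfsg.compLabel μ j := perm_le_eq _ _ hc
  refine ⟨π, (show π ∈ Cfsg.youngSubgroup ν from hbeq), (σ'⁻¹ * π * σ)⁻¹,
    inv_mem (show (σ'⁻¹ * π * σ) ∈ Cfsg.youngSubgroup μ from hceq), ?_⟩
  group

end Cfsg.Agent.Helper8
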