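import Cfsg.Agent.Helper8.NConj

set_option autoImplicit false

namespace Cfsg.Agent.Helper8

open Cfsg.Lie

set_option maxRecDepth 100000 in
theorem rowsSorted_G2 : rowsSorted chevG2 = true := by decide +kernel

set_option maxRecDepth 100000 in
theorem nConjChk_G2_0_0 : ∀ s, 0 ≤ s → s < 12 → nConjCheck chevG2 0 s = true :=
  range_all (nConjCheck chevG2 0) 0 12 (by decide +kernel)

theorem nConjChk_G2_0 : ∀ s, s < chevG2.nroots → nConjCheck chevG2 0 s = true :=
  fun s hs => (nConjChk_G2_0_0) s (Nat.zero_le _) hs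

set_option maxRecDepth 100000 in
theorem wChk_G2_0 : wCheck chevG2 0 = true := by decide +kernel

set_option maxRecDepth 100000 in
theorem nConjChk_G2_1_0 : ∀ s, 0 ≤ s → s < 12 → nConjCheck chevG2 1 s = true :=
  range_all (nConjCheck chevG2 1) 0 12 (by decide +kernel)

theorem nConjChk_G2_1 : ∀ s, s < chevG2.nroots → nConjCheck chevG2 1 s = true :=
  fun s hs => (nConjChk_G2_1_0) s (Nat.zero_le _) hs

set_option maxRecDepth 100000 in
theorem wChk_G2_1 : wCheck chevG2 1 = true := by decide +kernel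

theorem nConjOK_G2_part (i : ℕ) (hi : i < chevG2.rank) : wCheck chevG2 i = true ∧ ∀ s, s < chevG2.nroots → nConjCheck chevG2 i s = true := by
  have hi' : i < 2 := hi
  interval_cases i
  · exact ⟨wChk_G2_0, nConjChk_G2_0⟩
  · exact ⟨wChk_G2_1, nConjChk_G2_1⟩

set_option maxRecDepth 100000 in
theorem rowsSorted_B2 : rowsSorted chevB2 = true := by decide +kernel

set_option maxRecDepth 100000 in
theorem nConjChk_B2_0_0 : ∀ s, 0 ≤ s → s < 8 → nConjCheck chevB2 0 s = true :=
  range_all (nConjCheck chevB2 0) 0 8 (by decide +kernel)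

theorem nConjChk_B2_0 : ∀ s, s < chevB2.nroots → nConjCheck chevB2 0 s = true :=
  fun s hs => (nConjChk_B2_0_0) s (Nat.zero_le _) hs

set_option maxRecDepth 100000 in
theorem wChk_B2_0 : wCheck chevB2 0 = true := by decide +kernel

set_option maxRecDepth 100000 in
theorem nConjChk_B2_1_0 : ∀ s, 0 ≤ s → s < 8 → nConjCheck chevB2 1 s = true :=
  range_all (nConjCheck chevB2 1) 0 8 (by decide +kernel)

theorem nConjChk_B2_1 : ∀ s, s < chevB2.nroots → nConjCheck chevB2 1 s = true :=
  fun s hs => (nConjChk_B2_1_0) s (Nat.zero_le _) hs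

set_option maxRecDepth 100000 in
theorem wChk_B2_1 : wCheck chevB2 1 = true := by decide +kernel

theorem nConjOK_B2_part (i : ℕ) (hi : i < chevB2.rank) : wCheck chevB2 i = true ∧ ∀ s, s < chevB2.nroots → nConjCheck chevB2 i s = true := by
  have hi' : i < 2 := hi
  interval_cases i
  · exact ⟨wChk_B2_0, nConjChk_B2_0⟩
  · exact ⟨wChk_B2_1, nConjChk_B2_1⟩

set_option maxRecDepth 100000 in
theorem rowsSorted_D4 : rowsSorted chevD4 = true := by decide +kernel

set_option maxRecDepth 100000 in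
theorem nConjChk_D4_0_0 : ∀ s, 0 ≤ s → s < 24 → nConjCheck chevD4 0 s = true :=
  range_all (nConjCheck chevD4 0) 0 24 (by decide +kernel)

theorem nConjChk_D4_0 : ∀ s, s < chevD4.nroots → nConjCheck chevD4 0 s = true :=
  fun s hs => (nConjChk_D4_0_0) s (Nat.zero_le _) hs

set_option maxRecDepth 100000 in
theorem wChk_D4_0 : wCheck chevD4 0 = true := by decide +kernel

set_option maxRecDepth 100000 in
theorem nConjChk_D4_1_0 : ∀ s, 0 ≤ s → s < 24 → nConjCheck chevD4 1 s = true :=
  range_all (nConjCheck chevD4 1) 0 24 (by decide +kernel)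

theorem nConjChk_D4_1 : ∀ s, s < chevD4.nroots → nConjCheck chevD4 1 s = true :=
  fun s hs => (nConjChk_D4_1_0) s (Nat.zero_le _) hs

set_option maxRecDepth 100000 in
theorem wChk_D4_1 : wCheck chevD4 1 = true := by decide +kernel

set_option maxRecDepth 100000 in
theorem nConjChk_D4_2_0 : ∀ s, 0 ≤ s → s < 24 → nConjCheck chevD4 2 s = true :=
  range_all (nConjCheck chevD4 2) 0 24 (by decide +kernel)

theorem nConjChk_D4_2 : ∀ s, s < chevD4.nroots → nConjCheck chevD4 2 s = true :=
  fun s hs => (nConjChk_D4_2_0) s (Nat.zero_le _) hs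

set_option maxRecDepth 100000 in
theorem wChk_D4_2 : wCheck chevD4 2 = true := by decide +kernel

set_option maxRecDepth 100000 in
theorem nConjChk_D4_3_0 : ∀ s, 0 ≤ s → s < 24 → nConjCheck chevD4 3 s = true :=
  range_all (nConjCheck chevD4 3) 0 24 (by decide +kernel)

theorem nConjChk_D4_3 : ∀ s, s < chevD4.nroots → nConjCheck chevD4 3 s = true :=
  fun s hs => (nConjChk_D4_3_0) s (Nat.zero_le _) hs

set_option maxRecDepth 100000 in
theorem wChk_D4_3 : wCheck chevD4 3 = true := by decide +kernel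

theorem nConjOK_D4_part (i : ℕ) (hi : i < chevD4.rank) : wCheck chevD4 i = true ∧ ∀ s, s < chevD4.nroots → nConjCheck chevD4 i s = true := by
  have hi' : i < 4 := hi
  interval_cases i
  · exact ⟨wChk_D4_0, nConjChk_D4_0⟩
  · exact ⟨wChk_D4_1, nConjChk_D4_1⟩
  · exact ⟨wChk_D4_2, nConjChk_D4_2⟩
  · exact ⟨wChk_D4_3, nConjChk_D4_3⟩

set_option maxRecDepth 100000 in
theorem rowsSorted_F4 : rowsSorted chevF4 = true := by decide +kernel

set_option maxRecDepth 100000 in
theorem nConjChk_F4_0_0 : ∀ s, 0 ≤ s → s < 48 → nConjCheck chevF4 0 s = true :=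
  range_all (nConjCheck chevF4 0) 0 48 (by decide +kernel)

theorem nConjChk_F4_0 : ∀ s, s < chevF4.nroots → nConjCheck chevF4 0 s = true :=
  fun s hs => (nConjChk_F4_0_0) s (Nat.zero_le _) hs

set_option maxRecDepth 100000 in
theorem wChk_F4_0 : wCheck chevF4 0 = true := by decide +kernel

set_option maxRecDepth 100000 in
theorem nConjChk_F4_1_0 : ∀ s, 0 ≤ s → s < 48 → nConjCheck chevF4 1 s = true :=
  range_all (nConjCheck chevF4 1) 0 48 (by decide +kernel)

theorem nConjChk_F4_1 : ∀ s, s < chevF4.nroots → nConjCheck chevF4 1 s = true :=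
  fun s hs => (nConjChk_F4_1_0) s (Nat.zero_le _) hs

set_option maxRecDepth 100000 in
theorem wChk_F4_1 : wCheck chevF4 1 = true := by decide +kernel

set_option maxRecDepth 100000 in
theorem nConjChk_F4_2_0 : ∀ s, 0 ≤ s → s < 48 → nConjCheck chevF4 2 s = true :=
  range_all (nConjCheck chevF4 2) 0 48 (by decide +kernel)

theorem nConjChk_F4_2 : ∀ s, s < chevF4.nroots → nConjCheck chevF4 2 s = true :=
  fun s hs => (nConjChk_F4_2_0) s (Nat.zero_le _) hs

set_option maxRecDepth 100000 in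
theorem wChk_F4_2 : wCheck chevF4 2 = true := by decide +kernel

set_option maxRecDepth 100000 in
theorem nConjChk_F4_3_0 : ∀ s, 0 ≤ s → s < 48 → nConjCheck chevF4 3 s = true :=
  range_all (nConjCheck chevF4 3) 0 48 (by decide +kernel)

theorem nConjChk_F4_3 : ∀ s, s < chevF4.nroots → nConjCheck chevF4 3 s = true :=
  fun s hs => (nConjChk_F4_3_0) s (Nat.zero_le _) hs

set_option maxRecDepth 100000 in
theorem wChk_F4_3 : wCheck chevF4 3 = true := by decide +kernel

theorem nConjOK_F4_part (i : ℕ) (hi : i < chevF4.rank) : wCheck chevF4 i = true ∧ ∀ s, s < chevF4.nroots → nConjCheck chevF4 i s = true := by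
  have hi' : i < 4 := hi
  interval_cases i
  · exact ⟨wChk_F4_0, nConjChk_F4_0⟩
  · exact ⟨wChk_F4_1, nConjChk_F4_1⟩
  · exact ⟨wChk_F4_2, nConjChk_F4_2⟩
  · exact ⟨wChk_F4_3, nConjChk_F4_3⟩

set_option maxRecDepth 100000 in
theorem rowsSorted_E6 : rowsSorted chevE6 = true := by decide +kernel

set_option maxRecDepth 100000 in
theorem nConjChk_E6_0_0 : ∀ s, 0 ≤ s → s < 72 → nConjCheck chevE6 0 s = true :=
  range_all (nConjCheck chevE6 0) 0 72 (by decide +kernel)

theorem nConjChk_E6_0 : ∀ s, s < chevE6.nroots → nConjCheck chevE6 0 s = true :=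
  fun s hs => (nConjChk_E6_0_0) s (Nat.zero_le _) hs

set_option maxRecDepth 100000 in
theorem wChk_E6_0 : wCheck chevE6 0 = true := by decide +kernel

set_option maxRecDepth 100000 in
theorem nConjChk_E6_1_0 : ∀ s, 0 ≤ s → s < 72 → nConjCheck chevE6 1 s = true :=
  range_all (nConjCheck chevE6 1) 0 72 (by decide +kernel)

theorem nConjChk_E6_1 : ∀ s, s < chevE6.nroots → nConjCheck chevE6 1 s = true :=
  fun s hs => (nConjChk_E6_1_0) s (Nat.zero_le _) hs

set_option maxRecDepth 100000 in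
theorem wChk_E6_1 : wCheck chevE6 1 = true := by decide +kernel

set_option maxRecDepth 100000 in
theorem nConjChk_E6_2_0 : ∀ s, 0 ≤ s → s < 72 → nConjCheck chevE6 2 s = true :=
  range_all (nConjCheck chevE6 2) 0 72 (by decide +kernel)

theorem nConjChk_E6_2 : ∀ s, s < chevE6.nroots → nConjCheck chevE6 2 s = true :=
  fun s hs => (nConjChk_E6_2_0) s (Nat.zero_le _) hs

set_option maxRecDepth 100000 in
theorem wChk_E6_2 : wCheck chevE6 2 = true := by decide +kernel

set_option maxRecDepth 100000 in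
theorem nConjChk_E6_3_0 : ∀ s, 0 ≤ s → s < 72 → nConjCheck chevE6 3 s = true :=
  range_all (nConjCheck chevE6 3) 0 72 (by decide +kernel)

theorem nConjChk_E6_3 : ∀ s, s < chevE6.nroots → nConjCheck chevE6 3 s = true :=
  fun s hs => (nConjChk_E6_3_0) s (Nat.zero_le _) hs

set_option maxRecDepth 100000 in
theorem wChk_E6_3 : wCheck chevE6 3 = true := by decide +kernel

set_option maxRecDepth 100000 in
theorem nConjChk_E6_4_0 : ∀ s, 0 ≤ s → s < 72 → nConjCheck chevE6 4 s = true :=
  range_all (nConjCheck chevE6 4) 0 72 (by decide +kernel)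

theorem nConjChk_E6_4 : ∀ s, s < chevE6.nroots → nConjCheck chevE6 4 s = true :=
  fun s hs => (nConjChk_E6_4_0) s (Nat.zero_le _) hs

set_option maxRecDepth 100000 in
theorem wChk_E6_4 : wCheck chevE6 4 = true := by decide +kernel

set_option maxRecDepth 100000 in
theorem nConjChk_E6_5_0 : ∀ s, 0 ≤ s → s < 72 → nConjCheck chevE6 5 s = true :=
  range_all (nConjCheck chevE6 5) 0 72 (by decide +kernel)

theorem nConjChk_E6_5 : ∀ s, s < chevE6.nroots → nConjCheck chevE6 5 s = true :=
  fun s hs => (nConjChk_E6_5_0) s (Nat.zero_le _) hs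

set_option maxRecDepth 100000 in
theorem wChk_E6_5 : wCheck chevE6 5 = true := by decide +kernel

theorem nConjOK_E6_part (i : ℕ) (hi : i < chevE6.rank) : wCheck chevE6 i = true ∧ ∀ s, s < chevE6.nroots → nConjCheck chevE6 i s = true := by
  have hi' : i < 6 := hi
  interval_cases i
  · exact ⟨wChk_E6_0, nConjChk_E6_0⟩
  · exact ⟨wChk_E6_1, nConjChk_E6_1⟩
  · exact ⟨wChk_E6_2, nConjChk_E6_2⟩
  · exact ⟨wChk_E6_3, nConjChk_E6_3⟩
  · exact ⟨wChk_E6_4, nConjChk_E6_4⟩
  · exact ⟨wChk_E6_5, nConjChk_E6_5⟩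

end Cfsg.Agent.Helper8
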