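import Cfsg.Agent.Helper8.Cox1
import Cfsg.Agent.Helper8.CartAll
import Cfsg.Agent.Helper8.CommAll

set_option autoImplicit false

namespace Cfsg.Agent.Helper8

open Cfsg.Lie

/-! ### Root coordinates (scaled by the determinant of the Cartan matrix) -/

/-- Entry of an integer table. -/
def gzT (M : List (List ℤ)) (a b : ℕ) : ℤ := (M.getD a []).getD b 0

/-- `Σ_k tbl[i][k] A_{p_k, s}`. -/
def rcT (D : ChevalleyDatum) (tbl : List (List ℤ)) (i s : ℕ) : ℤ :=
  sumTo (fun k => gzT tbl i k * D.cartan k s) D.rank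

def adjTblG2 : List (List ℤ) := [[2, 3], [1, 2]]

def adjTblB2 : List (List ℤ) := [[2, 2], [1, 2]]

def adjTblD4 : List (List ℤ) := [[4, 4, 2, 2], [4, 8, 4, 4], [2, 4, 4, 2], [2, 4, 2, 4]]

def adjTblF4 : List (List ℤ) := [[2, 3, 4, 2], [3, 6, 8, 4], [2, 4, 6, 3], [1, 2, 3, 2]]

def adjTblE6 : List (List ℤ) := [[4, 3, 5, 6, 4, 2], [3, 6, 6, 9, 6, 3], [5, 6, 10, 12, 8, 4], [6, 9, 12, 18, 12, 6], [4, 6, 8, 12, 10, 5], [2, 3, 4, 6, 5, 4]]

def adjTblE7 : List (List ℤ) := [[4, 4, 6, 8, 6, 4, 2], [4, 7, 8, 12, 9, 6, 3], [6, 8, 12, 16, 12, 8, 4], [8, 12, 16, 24, 18, 12, 6], [6, 9, 12, 18, 15, 10, 5], [4, 6, 8, 12, 10, 8, 4], [2, 3, 4, 6, 5, 4, 3]]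

def adjTblE8 : List (List ℤ) := [[4, 5, 7, 10, 8, 6, 4, 2], [5, 8, 10, 15, 12, 9, 6, 3], [7, 10, 14, 20, 16, 12, 8, 4], [10, 15, 20, 30, 24, 18, 12, 6], [8, 12, 16, 24, 20, 15, 10, 5], [6, 9, 12, 18, 15, 12, 8, 4], [4, 6, 8, 12, 10, 8, 6, 3], [2, 3, 4, 6, 5, 4, 3, 2]]

/-- The adjugate of the Cartan matrix of the type, recognised by its number of roots. -/
def adjOf (D : ChevalleyDatum) : List (List ℤ) :=
  cond (Nat.beq D.nroots 12) adjTblG2 (cond (Nat.beq D.nroots 8) adjTblB2 (cond (Nat.beq D.nroots 24) adjTblD4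
    (cond (Nat.beq D.nroots 48) adjTblF4 (cond (Nat.beq D.nroots 72) adjTblE6
      (cond (Nat.beq D.nroots 126) adjTblE7 adjTblE8)))))

/-- The determinant of the Cartan matrix of the type. -/
def detOf (D : ChevalleyDatum) : ℤ :=
  cond (Nat.beq D.nroots 12) 1 (cond (Nat.beq D.nroots 8) 2 (cond (Nat.beq D.nroots 24) 4
    (cond (Nat.beq D.nroots 48) 1 (cond (Nat.beq D.nroots 72) 3 (cond (Nat.beq D.nroots 126) 2 1)))))

/-- The `i`-th coordinate of the root `s` on the fundamental roots, multiplied by the determinant. -/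
def rc (D : ChevalleyDatum) (i s : ℕ) : ℤ := rcT D (adjOf D) i s

/-- Check for the fundamental root `j`: its scaled coordinates are `d δ_ij`. -/
def rcSimpleChk (D : ChevalleyDatum) (j : ℕ) : Bool :=
  allF (fun i => decide (rc D i (D.simple j) = @Bool.rec (fun _ => ℤ) 0 (detOf D) (Nat.beq i j))) (List.range D.rank) &&
    decide (0 < detOf D)

/-- Check for the root `s`: the signs of the scaled coordinates are those of the coroot coordinates. -/
def rcSignChk (D : ChevalleyDatum) (s : ℕ) : Bool :=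
  allF (fun i => ((decide (0 < rc D i s) && decide (0 < corootC D s i)) ||
      (!(decide (0 < rc D i s)) && !(decide (0 < corootC D s i)))) &&
    ((decide (rc D i s < 0) && decide (corootC D s i < 0)) ||
      (!(decide (rc D i s < 0)) && !(decide (corootC D s i < 0))))) (List.range D.rank)

/-- Check for the root `r`: if it is positive and not fundamental, some fundamental reflection lowers it. -/
def descChk (D : ChevalleyDatum) (r : ℕ) : Bool :=
  !(decide (D.IsPosRoot r)) || (anyF (fun k => Nat.beq r (D.simple k)) (List.range D.rank) ||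
    anyF (fun j => decide (0 < D.cartan j r) && decide (0 < corootC D r j)) (List.range D.rank))

set_option maxRecDepth 100000 in
theorem rcSimple_G2 : ∀ j, 0 ≤ j → j < 2 → rcSimpleChk chevG2 j = true :=
  range_all (rcSimpleChk chevG2) 0 2 (by decide +kernel)

set_option maxRecDepth 100000 in
theorem rcSign_G2 : ∀ s, 0 ≤ s → s < 12 → rcSignChk chevG2 s = true :=
  range_all (rcSignChk chevG2) 0 12 (by decide +kernel)

set_option maxRecDepth 100000 in
theorem desc_G2 : ∀ s, 0 ≤ s → s < 12 → descChk chevG2 s = true :=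
  range_all (descChk chevG2) 0 12 (by decide +kernel)

set_option maxRecDepth 100000 in
theorem rcSimple_B2 : ∀ j, 0 ≤ j → j < 2 → rcSimpleChk chevB2 j = true :=
  range_all (rcSimpleChk chevB2) 0 2 (by decide +kernel)

set_option maxRecDepth 100000 in
theorem rcSign_B2 : ∀ s, 0 ≤ s → s < 8 → rcSignChk chevB2 s = true :=
  range_all (rcSignChk chevB2) 0 8 (by decide +kernel)

set_option maxRecDepth 100000 in
theorem desc_B2 : ∀ s, 0 ≤ s → s < 8 → descChk chevB2 s = true :=
  range_all (descChk chevB2) 0 8 (by decide +kernel)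

set_option maxRecDepth 100000 in
theorem rcSimple_D4 : ∀ j, 0 ≤ j → j < 4 → rcSimpleChk chevD4 j = true :=
  range_all (rcSimpleChk chevD4) 0 4 (by decide +kernel)

set_option maxRecDepth 100000 in
theorem rcSign_D4 : ∀ s, 0 ≤ s → s < 24 → rcSignChk chevD4 s = true :=
  range_all (rcSignChk chevD4) 0 24 (by decide +kernel)

set_option maxRecDepth 100000 in
theorem desc_D4 : ∀ s, 0 ≤ s → s < 24 → descChk chevD4 s = true :=
  range_all (descChk chevD4) 0 24 (by decide +kernel)

set_option maxRecDepth 100000 in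
theorem rcSimple_F4 : ∀ j, 0 ≤ j → j < 4 → rcSimpleChk chevF4 j = true :=
  range_all (rcSimpleChk chevF4) 0 4 (by decide +kernel)

set_option maxRecDepth 100000 in
theorem rcSign_F4 : ∀ s, 0 ≤ s → s < 48 → rcSignChk chevF4 s = true :=
  range_all (rcSignChk chevF4) 0 48 (by decide +kernel)

set_option maxRecDepth 100000 in
theorem desc_F4 : ∀ s, 0 ≤ s → s < 48 → descChk chevF4 s = true :=
  range_all (descChk chevF4) 0 48 (by decide +kernel)

set_option maxRecDepth 100000 in
theorem rcSimple_E6 : ∀ j, 0 ≤ j → j < 6 → rcSimpleChk chevE6 j = true :=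
  range_all (rcSimpleChk chevE6) 0 6 (by decide +kernel)

set_option maxRecDepth 100000 in
theorem rcSign_E6 : ∀ s, 0 ≤ s → s < 72 → rcSignChk chevE6 s = true :=
  range_all (rcSignChk chevE6) 0 72 (by decide +kernel)

set_option maxRecDepth 100000 in
theorem desc_E6 : ∀ s, 0 ≤ s → s < 72 → descChk chevE6 s = true :=
  range_all (descChk chevE6) 0 72 (by decide +kernel)

set_option maxRecDepth 100000 in
theorem rcSimple_E7 : ∀ j, 0 ≤ j → j < 7 → rcSimpleChk chevE7 j = true :=
  range_all (rcSimpleChk chevE7) 0 7 (by decide +kernel)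

set_option maxRecDepth 100000 in
theorem rcSign_E7 : ∀ s, 0 ≤ s → s < 126 → rcSignChk chevE7 s = true :=
  range_all (rcSignChk chevE7) 0 126 (by decide +kernel)

set_option maxRecDepth 100000 in
theorem desc_E7 : ∀ s, 0 ≤ s → s < 126 → descChk chevE7 s = true :=
  range_all (descChk chevE7) 0 126 (by decide +kernel)

set_option maxRecDepth 100000 in
theorem rcSimple_E8 : ∀ j, 0 ≤ j → j < 8 → rcSimpleChk chevE8 j = true :=
  range_all (rcSimpleChk chevE8) 0 8 (by decide +kernel)

set_option maxRecDepth 100000 in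
theorem rcSign_E8 : ∀ s, 0 ≤ s → s < 240 → rcSignChk chevE8 s = true :=
  range_all (rcSignChk chevE8) 0 240 (by decide +kernel)

set_option maxRecDepth 100000 in
theorem desc_E8 : ∀ s, 0 ≤ s → s < 240 → descChk chevE8 s = true :=
  range_all (descChk chevE8) 0 240 (by decide +kernel)

theorem rcSimple_all (D : ChevalleyDatum) (hD : Std7 D) (s : ℕ) (hs : s < D.rank) : rcSimpleChk D s = true := by
  simp only [Std7, List.mem_cons, List.mem_nil_iff, or_false] at hD
  rcases hD with rfl | rfl | rfl | rfl | rfl | rfl | rfl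
  · exact rcSimple_G2 s (Nat.zero_le _) hs
  · exact rcSimple_B2 s (Nat.zero_le _) hs
  · exact rcSimple_D4 s (Nat.zero_le _) hs
  · exact rcSimple_F4 s (Nat.zero_le _) hs
  · exact rcSimple_E6 s (Nat.zero_le _) hs
  · exact rcSimple_E7 s (Nat.zero_le _) hs
  · exact rcSimple_E8 s (Nat.zero_le _) hs

theorem rcSign_all (D : ChevalleyDatum) (hD : Std7 D) (s : ℕ) (hs : s < D.nroots) : rcSignChk D s = true := by
  simp only [Std7, List.mem_cons, List.mem_nil_iff, or_false] at hD
  rcases hD with rfl | rfl | rfl | rfl | rfl | rfl | rfl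
  · exact rcSign_G2 s (Nat.zero_le _) hs
  · exact rcSign_B2 s (Nat.zero_le _) hs
  · exact rcSign_D4 s (Nat.zero_le _) hs
  · exact rcSign_F4 s (Nat.zero_le _) hs
  · exact rcSign_E6 s (Nat.zero_le _) hs
  · exact rcSign_E7 s (Nat.zero_le _) hs
  · exact rcSign_E8 s (Nat.zero_le _) hs

theorem desc_all (D : ChevalleyDatum) (hD : Std7 D) (s : ℕ) (hs : s < D.nroots) : descChk D s = true := by
  simp only [Std7, List.mem_cons, List.mem_nil_iff, or_false] at hD
  rcases hD with rfl | rfl | rfl | rfl | rfl | rfl | rfl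
  · exact desc_G2 s (Nat.zero_le _) hs
  · exact desc_B2 s (Nat.zero_le _) hs
  · exact desc_D4 s (Nat.zero_le _) hs
  · exact desc_F4 s (Nat.zero_le _) hs
  · exact desc_E6 s (Nat.zero_le _) hs
  · exact desc_E7 s (Nat.zero_le _) hs
  · exact desc_E8 s (Nat.zero_le _) hs

end Cfsg.Agent.Helper8
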