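import Cfsg.Agent.Helper8.RPair4
import Cfsg.Agent.Helper8.LongC2

set_option autoImplicit false

namespace Cfsg.Agent.Helper8

open Cfsg.Lie

/-! ### Tables for pairs of conjugates of the highest root subgroup: type `E₈` -/

def pairTblE8 : List (ℕ × List ℕ) :=
  [(239, []), (238, []), (237, []), (236, []), (235, []), (234, []), (232, []), (233, []), (231, []), (225, []), (224, []), (230, []), (223, []), (229, []), (218, []), (222, []), (228, []), (217, []), (221, []), (227, []), (213, []), (216, []), (220, []), (226, []), (203, []), (212, []), (215, []), (219, []), (202, []), (209, []), (211, []), (214, []), (199, []), (201, []), (208, []), (210, []), (193, []), (198, []), (200, []), (206, []), (207, []), (183, []), (192, []), (196, []), (197, []), (205, []), (161,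 []), (182, []), (190, []), (191, []), (195, []), (204, []), (160, []), (180, []), (181, []), (187, []), (189, []), (194, []), (158, []), (159, []), (177, []), (179, []), (186, []), (188, []), (155, []), (157, []), (173, []), (176, []), (178, []), (185, []), (151, []), (154, []), (156, []), (168, []), (172, []), (175, []), (184, []), (140, []), (146, []), (150, []), (153, []), (167, []), (171, []), (174, []), (134, []), (139, []), (145, []), (149, []), (152, []), (166, []), (170, []), (129, []), (133, []), (138, []), (144, []), (148, []), (165, []), (169, []), (125, []), (128, []), (132, []), (137, []), (143, []), (147, []), (164, []), (122, []), (124, []), (127, []), (131, []), (136, []), (142, []), (163, []), (120, []), (121, []), (123, []), (126, []), (130, []),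 (135, []), (141, []), (162, []), (119, [7]), (118, [6]), (116, [5]), (113, [4]), (109, [3]), (104, [2]), (98, [1]), (77, [0]), (117, [7, 6]), (115, [6, 5]), (112, [5, 4]), (108, [4, 3]), (97, [3, 1]), (103, [3, 2]), (76, [2, 0]), (114, [7, 6, 5]), (111, [6, 5, 4]), (107, [5, 4, 3]), (96, [4, 3, 1]), (102, [4, 3, 2]), (92, [3, 2, 1]), (75, [3, 2, 0]), (110, [7, 6, 5, 4]), (106, [6, 5, 4, 3]), (95, [5, 4, 3, 1]), (101, [5, 4, 3, 2]), (91, [4, 3, 2, 1]), (74, [4, 3, 2, 0]), (70, [3, 2, 1, 0]), (105, [7, 6, 5, 4, 3]), (94, [6, 5, 4, 3, 1]), (100, [6, 5, 4, 3, 2]), (90, [5, 4, 3, 2, 1]), (73, [5, 4, 3, 2, 0]), (69, [4, 3, 2, 1, 0]), (87, [4, 3, 2, 1, 3]), (93, [7, 6, 5, 4, 3, 1]), (99, [7, 6, 5, 4, 3, 2]), (89, [6, 5, 4, 3, 2, 1]), (72, [6, 5, 4, 3, 2, 0]), (68, [5, 4,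 3, 2, 1, 0]), (86, [5, 4, 3, 2, 1, 3]), (65, [4, 3, 2, 1, 3, 0]), (88, [7, 6, 5, 4, 3, 2, 1]), (71, [7, 6, 5, 4, 3, 2, 0]), (67, [6, 5, 4, 3, 2, 1, 0]), (85, [6, 5, 4, 3, 2, 1, 3]), (64, [5, 4, 3, 2, 1, 3, 0]), (83, [5, 4, 3, 2, 1, 3, 4]), (55, [4, 3, 2, 1, 3, 0, 2]), (66, [7, 6, 5, 4, 3, 2, 1, 0]), (84, [7, 6, 5, 4, 3, 2, 1, 3]), (63, [6, 5, 4, 3, 2, 1, 3, 0]), (82, [6, 5, 4, 3, 2, 1, 3, 4]), (54, [5, 4, 3, 2, 1, 3, 0, 2]), (61, [5, 4, 3, 2, 1, 3, 4, 0]), (62, [7, 6, 5, 4, 3, 2, 1, 3, 0]), (81, [7, 6, 5, 4, 3, 2, 1, 3, 4]), (53, [6, 5, 4, 3, 2, 1, 3, 0, 2]), (60, [6, 5, 4, 3, 2, 1, 3, 4, 0]), (80, [6, 5, 4, 3, 2, 1, 3, 4, 5]), (51, [5, 4, 3, 2, 1, 3, 4, 0, 2]), (52, [7, 6, 5, 4, 3, 2, 1, 3, 0, 2]), (59, [7, 6, 5, 4, 3, 2, 1, 3, 4, 0]), (79, [7, 6, 5, 4, 3, 2, 1,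 3, 4, 5]), (50, [6, 5, 4, 3, 2, 1, 3, 4, 0, 2]), (58, [6, 5, 4, 3, 2, 1, 3, 4, 5, 0]), (45, [5, 4, 3, 2, 1, 3, 4, 0, 2, 3]), (49, [7, 6, 5, 4, 3, 2, 1, 3, 4, 0, 2]), (57, [7, 6, 5, 4, 3, 2, 1, 3, 4, 5, 0]), (78, [7, 6, 5, 4, 3, 2, 1, 3, 4, 5, 6]), (44, [6, 5, 4, 3, 2, 1, 3, 4, 0, 2, 3]), (48, [6, 5, 4, 3, 2, 1, 3, 4, 5, 0, 2]), (35, [5, 4, 3, 2, 1, 3, 4, 0, 2, 3, 1]), (43, [7, 6, 5, 4, 3, 2, 1, 3, 4, 0, 2, 3]), (47, [7, 6, 5, 4, 3, 2, 1, 3, 4, 5, 0, 2]), (56, [7, 6, 5, 4, 3, 2, 1, 3, 4, 5, 6, 0]), (34, [6, 5, 4, 3, 2, 1, 3, 4, 0, 2, 3, 1]), (42, [6, 5, 4, 3, 2, 1, 3, 4, 5, 0, 2, 3]), (33, [7, 6, 5, 4, 3, 2, 1, 3, 4, 0, 2, 3, 1]), (41, [7, 6, 5, 4, 3, 2, 1, 3, 4, 5, 0, 2, 3]), (46, [7, 6, 5, 4, 3, 2, 1, 3, 4, 5, 6, 0, 2]), (32, [6, 5, 4, 3, 2, 1, 3, 4, 5, 0, 2, 3,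 1]), (39, [6, 5, 4, 3, 2, 1, 3, 4, 5, 0, 2, 3, 4]), (31, [7, 6, 5, 4, 3, 2, 1, 3, 4, 5, 0, 2, 3, 1]), (38, [7, 6, 5, 4, 3, 2, 1, 3, 4, 5, 0, 2, 3, 4]), (40, [7, 6, 5, 4, 3, 2, 1, 3, 4, 5, 6, 0, 2, 3]), (29, [6, 5, 4, 3, 2, 1, 3, 4, 5, 0, 2, 3, 4, 1]), (28, [7, 6, 5, 4, 3, 2, 1, 3, 4, 5, 0, 2, 3, 4, 1]), (30, [7, 6, 5, 4, 3, 2, 1, 3, 4, 5, 6, 0, 2, 3, 1]), (37, [7, 6, 5, 4, 3, 2, 1, 3, 4, 5, 6, 0, 2, 3, 4]), (25, [6, 5, 4, 3, 2, 1, 3, 4, 5, 0, 2, 3, 4, 1, 3]), (24, [7, 6, 5, 4, 3, 2, 1, 3, 4, 5, 0, 2, 3, 4, 1, 3]), (27, [7, 6, 5, 4, 3, 2, 1, 3, 4, 5, 6, 0, 2, 3, 4, 1]), (36, [7, 6, 5, 4, 3, 2, 1, 3, 4, 5, 6, 0, 2, 3, 4, 5]), (20, [6, 5, 4, 3, 2, 1, 3, 4, 5, 0, 2, 3, 4, 1, 3, 2]), (19, [7, 6, 5, 4, 3, 2, 1, 3, 4, 5, 0, 2, 3, 4, 1, 3, 2]), (23, [7, 6, 5, 4, 3, 2, 1,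 3, 4, 5, 6, 0, 2, 3, 4, 1, 3]), (26, [7, 6, 5, 4, 3, 2, 1, 3, 4, 5, 6, 0, 2, 3, 4, 5, 1]), (13, [6, 5, 4, 3, 2, 1, 3, 4, 5, 0, 2, 3, 4, 1, 3, 2, 0]), (12, [7, 6, 5, 4, 3, 2, 1, 3, 4, 5, 0, 2, 3, 4, 1, 3, 2, 0]), (18, [7, 6, 5, 4, 3, 2, 1, 3, 4, 5, 6, 0, 2, 3, 4, 1, 3, 2]), (22, [7, 6, 5, 4, 3, 2, 1, 3, 4, 5, 6, 0, 2, 3, 4, 5, 1, 3]), (11, [7, 6, 5, 4, 3, 2, 1, 3, 4, 5, 6, 0, 2, 3, 4, 1, 3, 2, 0]), (17, [7, 6, 5, 4, 3, 2, 1, 3, 4, 5, 6, 0, 2, 3, 4, 5, 1, 3, 2]), (21, [7, 6, 5, 4, 3, 2, 1, 3, 4, 5, 6, 0, 2, 3, 4, 5, 1, 3, 4]), (10, [7, 6, 5, 4, 3, 2, 1, 3, 4, 5, 6, 0, 2, 3, 4, 5, 1, 3, 2, 0]), (16, [7, 6, 5, 4, 3, 2, 1, 3, 4, 5, 6, 0, 2, 3, 4, 5, 1, 3, 4, 2]), (9, [7, 6, 5, 4, 3, 2, 1, 3, 4, 5, 6, 0, 2, 3, 4, 5, 1, 3, 4, 2, 0]), (15, [7, 6, 5, 4, 3, 2, 1, 3, 4, 5,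 6, 0, 2, 3, 4, 5, 1, 3, 4, 2, 3]), (8, [7, 6, 5, 4, 3, 2, 1, 3, 4, 5, 6, 0, 2, 3, 4, 5, 1, 3, 4, 2, 3, 0]), (14, [7, 6, 5, 4, 3, 2, 1, 3, 4, 5, 6, 0, 2, 3, 4, 5, 1, 3, 4, 2, 3, 1]), (6, [7, 6, 5, 4, 3, 2, 1, 3, 4, 5, 6, 0, 2, 3, 4, 5, 1, 3, 4, 2, 3, 1, 0]), (7, [7, 6, 5, 4, 3, 2, 1, 3, 4, 5, 6, 0, 2, 3, 4, 5, 1, 3, 4, 2, 3, 0, 2]), (5, [7, 6, 5, 4, 3, 2, 1, 3, 4, 5, 6, 0, 2, 3, 4, 5, 1, 3, 4, 2, 3, 0, 2, 1]), (4, [7, 6, 5, 4, 3, 2, 1, 3, 4, 5, 6, 0, 2, 3, 4, 5, 1, 3, 4, 2, 3, 0, 2, 1, 3]), (3, [7, 6, 5, 4, 3, 2, 1, 3, 4, 5, 6, 0, 2, 3, 4, 5, 1, 3, 4, 2, 3, 0, 2, 1, 3, 4]), (2, [7, 6, 5, 4, 3, 2, 1, 3, 4, 5, 6, 0, 2, 3, 4, 5, 1, 3, 4, 2, 3, 0, 2, 1, 3, 4, 5]), (1, [7, 6, 5, 4, 3, 2, 1, 3, 4, 5, 6, 0, 2, 3, 4, 5, 1, 3, 4, 2, 3, 0, 2, 1, 3, 4, 5, 6]), (0, [])]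

theorem commPos_E8 : commPosChk chevE8 239 = true := commPos_of_long _ _ _ _ longChk_E8

set_option maxRecDepth 100000 in
theorem pairChk_E8 : pairChk chevE8 239 wLitE8 pairTblE8 = true := by decide +kernel

end Cfsg.Agent.Helper8
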