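import Cfsg.Agent.Helper8.Reach

set_option autoImplicit false

namespace Cfsg.Agent.Helper8

open Cfsg.Lie

set_option maxRecDepth 100000 in
theorem reachChk_G2 : reachCheck chevG2 [(1, [1, 0, 1]), (1, [0, 1]), (0, [0, 1, 0]), (0, [1, 0]), (0, [0]), (1, [1]), (1, []), (0, []), (0, [1]), (0, [0, 1]), (1, [0]), (1, [1, 0])] = true := by decide +kernel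

set_option maxRecDepth 100000 in
theorem reachChk_B2 : reachCheck chevB2 [(1, [0, 1]), (0, [1, 0]), (0, [0]), (1, [1]), (1, []), (0, []), (0, [1]), (1, [0])] = true := by decide +kernel

set_option maxRecDepth 100000 in
theorem reachChk_D4 : reachCheck chevD4 [(0, [1, 3, 2, 1, 0]), (0, [3, 2, 1, 0]), (0, [2, 1, 0]), (0, [3, 1, 0]), (0, [1, 0]), (0, [0]), (1, [3, 2, 1]), (1, [2, 1]), (1, [3, 1]), (1, [1]), (2, [2]), (3, [3]), (3, []), (2, []), (1, []), (1, [3]), (1, [2]), (1, [3, 2]), (0, []), (0, [1]), (0, [3, 1]), (0, [2, 1]), (0, [3, 2, 1]), (0, [1, 3, 2, 1])] = true := by decide +kernel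

set_option maxRecDepth 100000 in
theorem reachChk_F4 : reachCheck chevF4 [(2, [3, 2, 1, 2, 3, 0, 1, 2]), (2, [2, 1, 2, 3, 0, 1, 2]), (2, [1, 2, 3, 0, 1, 2]), (0, [0, 1, 2, 3, 1, 2, 1, 0]), (2, [2, 3, 0, 1, 2]), (2, [3, 0, 1, 2]), (2, [0, 1, 2]), (0, [1, 2, 3, 1, 2, 1, 0]), (0, [2, 3, 1, 2, 1, 0]), (0, [3, 1, 2, 1, 0]), (0, [1, 2, 1, 0]), (0, [3, 2, 1, 0]), (0, [2, 1, 0]), (0, [1, 0]), (0, [0]), (2, [2, 3, 1, 2]), (2, [3, 1, 2]), (2, [1, 2]), (1, [3, 2, 1]), (1, [2, 1]), (1, [1]), (2, [3, 2]), (2, [2]), (3, [3]), (3, []), (2, []), (2, [3]), (1, []), (1, [2]), (1, [3, 2]), (2, [1]), (2, [3, 1]), (2, [2, 3, 1]), (0, []), (0, [1]), (0, [2, 1]), (0, [3, 2, 1]), (0, [1, 2, 1]), (0, [3, 1, 2, 1]), (0,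 [2, 3, 1, 2, 1]), (0, [1, 2, 3, 1, 2, 1]), (2, [0, 1]), (2, [3, 0, 1]), (2, [2, 3, 0, 1]), (0, [0, 1, 2, 3, 1, 2, 1]), (2, [1, 2, 3, 0, 1]), (2, [2, 1, 2, 3, 0, 1]), (2, [3, 2, 1, 2, 3, 0, 1])] = true := by decide +kernel

set_option maxRecDepth 100000 in
theorem reachChk_E6 : reachCheck chevE6 [(0, [1, 3, 4, 5, 2, 3, 4, 1, 3, 2, 0]), (0, [3, 4, 5, 2, 3, 4, 1, 3, 2, 0]), (0, [4, 5, 2, 3, 4, 1, 3, 2, 0]), (0, [5, 2, 3, 4, 1, 3, 2, 0]), (0, [2, 3, 4, 1, 3, 2, 0]), (0, [4, 5, 3, 4, 1, 3, 2, 0]), (0, [5, 3, 4, 1, 3, 2, 0]), (0, [3, 4, 1, 3, 2, 0]), (0, [5, 4, 1, 3, 2, 0]), (0, [4, 1, 3, 2, 0]), (0, [1, 3, 2, 0]), (0, [5, 4, 3, 2, 0]), (0, [4, 3, 2, 0]), (0, [3, 2, 0]), (0, [2, 0]), (0, [0]), (1, [4,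 5, 3, 4, 2, 3, 1]), (1, [5, 3, 4, 2, 3, 1]), (1, [3, 4, 2, 3, 1]), (1, [5, 4, 2, 3, 1]), (1, [4, 2, 3, 1]), (1, [2, 3, 1]), (1, [5, 4, 3, 1]), (1, [4, 3, 1]), (1, [3, 1]), (1, [1]), (2, [5, 4, 3, 2]), (2, [4, 3, 2]), (2, [3, 2]), (2, [2]), (3, [5, 4, 3]), (3, [4, 3]), (3, [3]), (4, [5, 4]), (4, [4]), (5, [5]), (5, []), (4, []), (4, [5]), (3, []), (3, [4]), (3, [5, 4]), (2, []), (2, [3]), (2, [4, 3]), (2, [5, 4, 3]), (1, []), (1, [3]), (1, [4, 3]), (1, [5, 4, 3]), (1, [2, 3]), (1, [4, 2, 3]), (1, [5, 4, 2, 3]), (1, [3, 4, 2, 3]), (1, [5, 3, 4, 2, 3]), (1, [4, 5, 3, 4, 2, 3]), (0, []), (0, [2]), (0, [3, 2]), (0, [4, 3, 2]), (0, [5, 4, 3, 2]), (0, [1, 3, 2]), (0, [4, 1, 3, 2]), (0, [5, 4, 1, 3, 2]),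 (0, [3, 4, 1, 3, 2]), (0, [5, 3, 4, 1, 3, 2]), (0, [4, 5, 3, 4, 1, 3, 2]), (0, [2, 3, 4, 1, 3, 2]), (0, [5, 2, 3, 4, 1, 3, 2]), (0, [4, 5, 2, 3, 4, 1, 3, 2]), (0, [3, 4, 5, 2, 3, 4, 1, 3, 2]), (0, [1, 3, 4, 5, 2, 3, 4, 1, 3, 2])] = true := by decide +kernel

set_option maxRecDepth 100000 in
theorem reachChk_E7 : reachCheck chevE7 [(0, [0, 2, 3, 4, 5, 6, 1, 3, 4, 5, 2, 3, 4, 1, 3, 2, 0]), (0, [2, 3, 4, 5, 6, 1, 3, 4, 5, 2, 3, 4, 1, 3, 2, 0]), (0, [3, 4, 5, 6, 1, 3, 4, 5, 2, 3, 4, 1, 3, 2, 0]), (0, [4, 5, 6, 1, 3, 4, 5, 2, 3, 4, 1, 3, 2, 0]), (0, [5, 6, 1, 3, 4, 5, 2, 3, 4, 1, 3, 2, 0]), (0, [6, 1, 3, 4, 5, 2, 3, 4, 1, 3, 2, 0]), (0, [1, 3, 4, 5, 2, 3, 4, 1, 3, 2, 0]), (0, [4, 5, 6, 3, 4, 5, 2, 3,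 4, 1, 3, 2, 0]), (0, [5, 6, 3, 4, 5, 2, 3, 4, 1, 3, 2, 0]), (0, [6, 3, 4, 5, 2, 3, 4, 1, 3, 2, 0]), (0, [3, 4, 5, 2, 3, 4, 1, 3, 2, 0]), (0, [5, 6, 4, 5, 2, 3, 4, 1, 3, 2, 0]), (0, [6, 4, 5, 2, 3, 4, 1, 3, 2, 0]), (0, [4, 5, 2, 3, 4, 1, 3, 2, 0]), (0, [6, 5, 2, 3, 4, 1, 3, 2, 0]), (0, [5, 2, 3, 4, 1, 3, 2, 0]), (0, [2, 3, 4, 1, 3, 2, 0]), (0, [5, 6, 4, 5, 3, 4, 1, 3, 2, 0]), (0, [6, 4, 5, 3, 4, 1, 3, 2, 0]), (0, [4, 5, 3, 4, 1, 3, 2, 0]), (0, [6, 5, 3, 4, 1, 3, 2, 0]), (0, [5, 3, 4, 1, 3, 2, 0]), (0, [3, 4, 1, 3, 2, 0]), (0, [6, 5, 4, 1, 3, 2, 0]), (0, [5, 4, 1, 3, 2, 0]), (0, [4, 1, 3, 2, 0]), (0, [1, 3, 2, 0]), (0, [6, 5, 4, 3, 2, 0]), (0, [5, 4, 3, 2, 0]), (0, [4, 3, 2, 0]), (0, [3, 2, 0]), (0,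 [2, 0]), (0, [0]), (1, [5, 6, 4, 5, 3, 4, 2, 3, 1]), (1, [6, 4, 5, 3, 4, 2, 3, 1]), (1, [4, 5, 3, 4, 2, 3, 1]), (1, [6, 5, 3, 4, 2, 3, 1]), (1, [5, 3, 4, 2, 3, 1]), (1, [3, 4, 2, 3, 1]), (1, [6, 5, 4, 2, 3, 1]), (1, [5, 4, 2, 3, 1]), (1, [4, 2, 3, 1]), (1, [2, 3, 1]), (1, [6, 5, 4, 3, 1]), (1, [5, 4, 3, 1]), (1, [4, 3, 1]), (1, [3, 1]), (1, [1]), (2, [6, 5, 4, 3, 2]), (2, [5, 4, 3, 2]), (2, [4, 3, 2]), (2, [3, 2]), (2, [2]), (3, [6, 5, 4, 3]), (3, [5, 4, 3]), (3, [4, 3]), (3, [3]), (4, [6, 5, 4]), (4, [5, 4]), (4, [4]), (5, [6, 5]), (5, [5]), (6, [6]), (6, []), (5, []), (5, [6]), (4, []), (4, [5]), (4, [6, 5]), (3, []), (3, [4]), (3, [5, 4]), (3, [6, 5, 4]), (2, []), (2, [3]), (2, [4, 3]), (2, [5,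 4, 3]), (2, [6, 5, 4, 3]), (1, []), (1, [3]), (1, [4, 3]), (1, [5, 4, 3]), (1, [6, 5, 4, 3]), (1, [2, 3]), (1, [4, 2, 3]), (1, [5, 4, 2, 3]), (1, [6, 5, 4, 2, 3]), (1, [3, 4, 2, 3]), (1, [5, 3, 4, 2, 3]), (1, [6, 5, 3, 4, 2, 3]), (1, [4, 5, 3, 4, 2, 3]), (1, [6, 4, 5, 3, 4, 2, 3]), (1, [5, 6, 4, 5, 3, 4, 2, 3]), (0, []), (0, [2]), (0, [3, 2]), (0, [4, 3, 2]), (0, [5, 4, 3, 2]), (0, [6, 5, 4, 3, 2]), (0, [1, 3, 2]), (0, [4, 1, 3, 2]), (0, [5, 4, 1, 3, 2]), (0, [6, 5, 4, 1, 3, 2]), (0, [3, 4, 1, 3, 2]), (0, [5, 3, 4, 1, 3, 2]), (0, [6, 5, 3, 4, 1, 3, 2]), (0, [4, 5, 3, 4, 1, 3, 2]), (0, [6, 4, 5, 3, 4, 1, 3, 2]), (0, [5, 6, 4, 5, 3, 4, 1, 3, 2]), (0, [2, 3, 4, 1, 3, 2]), (0, [5, 2, 3, 4, 1, 3, 2]),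 (0, [6, 5, 2, 3, 4, 1, 3, 2]), (0, [4, 5, 2, 3, 4, 1, 3, 2]), (0, [6, 4, 5, 2, 3, 4, 1, 3, 2]), (0, [5, 6, 4, 5, 2, 3, 4, 1, 3, 2]), (0, [3, 4, 5, 2, 3, 4, 1, 3, 2]), (0, [6, 3, 4, 5, 2, 3, 4, 1, 3, 2]), (0, [5, 6, 3, 4, 5, 2, 3, 4, 1, 3, 2]), (0, [4, 5, 6, 3, 4, 5, 2, 3, 4, 1, 3, 2]), (0, [1, 3, 4, 5, 2, 3, 4, 1, 3, 2]), (0, [6, 1, 3, 4, 5, 2, 3, 4, 1, 3, 2]), (0, [5, 6, 1, 3, 4, 5, 2, 3, 4, 1, 3, 2]), (0, [4, 5, 6, 1, 3, 4, 5, 2, 3, 4, 1, 3, 2]), (0, [3, 4, 5, 6, 1, 3, 4, 5, 2, 3, 4, 1, 3, 2]), (0, [2, 3, 4, 5, 6, 1, 3, 4, 5, 2, 3, 4, 1, 3, 2]), (0, [0, 2, 3, 4, 5, 6, 1, 3, 4, 5, 2, 3, 4, 1, 3, 2])] = true := by decide +kernel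

set_option maxRecDepth 100000 in
theorem reachChk_E8 : reachCheck chevE8 [(0, [7, 6, 5, 4, 3, 2, 1, 3, 4, 5, 6, 7, 0, 2, 3, 4, 5, 6, 1, 3, 4, 5, 2, 3, 4, 1, 3, 2, 0]), (0, [6, 5, 4, 3, 2, 1, 3, 4, 5, 6, 7, 0, 2, 3, 4, 5, 6, 1, 3, 4, 5, 2, 3, 4, 1, 3, 2, 0]), (0, [5, 4, 3, 2, 1, 3, 4, 5, 6, 7, 0, 2, 3, 4, 5, 6, 1, 3, 4, 5, 2, 3, 4, 1, 3, 2, 0]), (0, [4, 3, 2, 1, 3, 4, 5, 6, 7, 0, 2, 3, 4, 5, 6, 1, 3, 4, 5, 2, 3, 4, 1, 3, 2, 0]), (0, [3, 2, 1, 3, 4, 5, 6, 7, 0, 2, 3, 4, 5, 6, 1, 3, 4, 5, 2, 3, 4, 1, 3, 2, 0]), (0, [2, 1, 3, 4, 5, 6, 7, 0, 2, 3, 4, 5, 6, 1, 3, 4, 5, 2, 3, 4, 1, 3, 2, 0]), (0, [1, 3, 4, 5, 6, 7, 0, 2, 3, 4, 5, 6, 1, 3, 4, 5, 2, 3, 4, 1, 3, 2, 0]), (0, [2, 3, 4, 5, 6, 7, 0, 2, 3, 4,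 5, 6, 1, 3, 4, 5, 2, 3, 4, 1, 3, 2, 0]), (0, [3, 4, 5, 6, 7, 0, 2, 3, 4, 5, 6, 1, 3, 4, 5, 2, 3, 4, 1, 3, 2, 0]), (0, [4, 5, 6, 7, 0, 2, 3, 4, 5, 6, 1, 3, 4, 5, 2, 3, 4, 1, 3, 2, 0]), (0, [5, 6, 7, 0, 2, 3, 4, 5, 6, 1, 3, 4, 5, 2, 3, 4, 1, 3, 2, 0]), (0, [6, 7, 0, 2, 3, 4, 5, 6, 1, 3, 4, 5, 2, 3, 4, 1, 3, 2, 0]), (0, [7, 0, 2, 3, 4, 5, 6, 1, 3, 4, 5, 2, 3, 4, 1, 3, 2, 0]), (0, [0, 2, 3, 4, 5, 6, 1, 3, 4, 5, 2, 3, 4, 1, 3, 2, 0]), (0, [1, 3, 4, 5, 6, 7, 2, 3, 4, 5, 6, 1, 3, 4, 5, 2, 3, 4, 1, 3, 2, 0]), (0, [3, 4, 5, 6, 7, 2, 3, 4, 5, 6, 1, 3, 4, 5, 2, 3, 4, 1, 3, 2, 0]), (0, [4, 5, 6, 7, 2, 3, 4, 5, 6, 1, 3, 4, 5, 2, 3, 4, 1, 3, 2, 0]), (0, [5, 6, 7, 2, 3, 4, 5, 6, 1, 3, 4, 5, 2, 3, 4, 1, 3, 2, 0]),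 (0, [6, 7, 2, 3, 4, 5, 6, 1, 3, 4, 5, 2, 3, 4, 1, 3, 2, 0]), (0, [7, 2, 3, 4, 5, 6, 1, 3, 4, 5, 2, 3, 4, 1, 3, 2, 0]), (0, [2, 3, 4, 5, 6, 1, 3, 4, 5, 2, 3, 4, 1, 3, 2, 0]), (0, [4, 5, 6, 7, 3, 4, 5, 6, 1, 3, 4, 5, 2, 3, 4, 1, 3, 2, 0]), (0, [5, 6, 7, 3, 4, 5, 6, 1, 3, 4, 5, 2, 3, 4, 1, 3, 2, 0]), (0, [6, 7, 3, 4, 5, 6, 1, 3, 4, 5, 2, 3, 4, 1, 3, 2, 0]), (0, [7, 3, 4, 5, 6, 1, 3, 4, 5, 2, 3, 4, 1, 3, 2, 0]), (0, [3, 4, 5, 6, 1, 3, 4, 5, 2, 3, 4, 1, 3, 2, 0]), (0, [5, 6, 7, 4, 5, 6, 1, 3, 4, 5, 2, 3, 4, 1, 3, 2, 0]), (0, [6, 7, 4, 5, 6, 1, 3, 4, 5, 2, 3, 4, 1, 3, 2, 0]), (0, [7, 4, 5, 6, 1, 3, 4, 5, 2, 3, 4, 1, 3, 2, 0]), (0, [4, 5, 6, 1, 3, 4, 5, 2, 3, 4, 1, 3, 2, 0]), (0, [6, 7, 5, 6, 1, 3, 4,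 5, 2, 3, 4, 1, 3, 2, 0]), (0, [7, 5, 6, 1, 3, 4, 5, 2, 3, 4, 1, 3, 2, 0]), (0, [5, 6, 1, 3, 4, 5, 2, 3, 4, 1, 3, 2, 0]), (0, [7, 6, 1, 3, 4, 5, 2, 3, 4, 1, 3, 2, 0]), (0, [6, 1, 3, 4, 5, 2, 3, 4, 1, 3, 2, 0]), (0, [1, 3, 4, 5, 2, 3, 4, 1, 3, 2, 0]), (0, [5, 6, 7, 4, 5, 6, 3, 4, 5, 2, 3, 4, 1, 3, 2, 0]), (0, [6, 7, 4, 5, 6, 3, 4, 5, 2, 3, 4, 1, 3, 2, 0]), (0, [7, 4, 5, 6, 3, 4, 5, 2, 3, 4, 1, 3, 2, 0]), (0, [4, 5, 6, 3, 4, 5, 2, 3, 4, 1, 3, 2, 0]), (0, [6, 7, 5, 6, 3, 4, 5, 2, 3, 4, 1, 3, 2, 0]), (0, [7, 5, 6, 3, 4, 5, 2, 3, 4, 1, 3, 2, 0]), (0, [5, 6, 3, 4, 5, 2, 3, 4, 1, 3, 2, 0]), (0, [7, 6, 3, 4, 5, 2, 3, 4, 1, 3, 2, 0]), (0, [6, 3, 4, 5, 2, 3, 4, 1, 3, 2, 0]), (0, [3, 4, 5, 2, 3, 4, 1, 3, 2,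 0]), (0, [6, 7, 5, 6, 4, 5, 2, 3, 4, 1, 3, 2, 0]), (0, [7, 5, 6, 4, 5, 2, 3, 4, 1, 3, 2, 0]), (0, [5, 6, 4, 5, 2, 3, 4, 1, 3, 2, 0]), (0, [7, 6, 4, 5, 2, 3, 4, 1, 3, 2, 0]), (0, [6, 4, 5, 2, 3, 4, 1, 3, 2, 0]), (0, [4, 5, 2, 3, 4, 1, 3, 2, 0]), (0, [7, 6, 5, 2, 3, 4, 1, 3, 2, 0]), (0, [6, 5, 2, 3, 4, 1, 3, 2, 0]), (0, [5, 2, 3, 4, 1, 3, 2, 0]), (0, [2, 3, 4, 1, 3, 2, 0]), (0, [6, 7, 5, 6, 4, 5, 3, 4, 1, 3, 2, 0]), (0, [7, 5, 6, 4, 5, 3, 4, 1, 3, 2, 0]), (0, [5, 6, 4, 5, 3, 4, 1, 3, 2, 0]), (0, [7, 6, 4, 5, 3, 4, 1, 3, 2, 0]), (0, [6, 4, 5, 3, 4, 1, 3, 2, 0]), (0, [4, 5, 3, 4, 1, 3, 2, 0]), (0, [7, 6, 5, 3, 4, 1, 3, 2, 0]), (0, [6, 5, 3, 4, 1, 3, 2, 0]), (0, [5, 3, 4, 1, 3, 2, 0]), (0, [3, 4, 1,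 3, 2, 0]), (0, [7, 6, 5, 4, 1, 3, 2, 0]), (0, [6, 5, 4, 1, 3, 2, 0]), (0, [5, 4, 1, 3, 2, 0]), (0, [4, 1, 3, 2, 0]), (0, [1, 3, 2, 0]), (0, [7, 6, 5, 4, 3, 2, 0]), (0, [6, 5, 4, 3, 2, 0]), (0, [5, 4, 3, 2, 0]), (0, [4, 3, 2, 0]), (0, [3, 2, 0]), (0, [2, 0]), (0, [0]), (1, [6, 7, 5, 6, 4, 5, 3, 4, 2, 3, 1]), (1, [7, 5, 6, 4, 5, 3, 4, 2, 3, 1]), (1, [5, 6, 4, 5, 3, 4, 2, 3, 1]), (1, [7, 6, 4, 5, 3, 4, 2, 3, 1]), (1, [6, 4, 5, 3, 4, 2, 3, 1]), (1, [4, 5, 3, 4, 2, 3, 1]), (1, [7, 6, 5, 3, 4, 2, 3, 1]), (1, [6, 5, 3, 4, 2, 3, 1]), (1, [5, 3, 4, 2, 3, 1]), (1, [3, 4, 2, 3, 1]), (1, [7, 6, 5, 4, 2, 3, 1]), (1, [6, 5, 4, 2, 3, 1]), (1, [5, 4, 2, 3, 1]), (1, [4, 2, 3, 1]), (1, [2, 3, 1]), (1, [7, 6, 5, 4,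 3, 1]), (1, [6, 5, 4, 3, 1]), (1, [5, 4, 3, 1]), (1, [4, 3, 1]), (1, [3, 1]), (1, [1]), (2, [7, 6, 5, 4, 3, 2]), (2, [6, 5, 4, 3, 2]), (2, [5, 4, 3, 2]), (2, [4, 3, 2]), (2, [3, 2]), (2, [2]), (3, [7, 6, 5, 4, 3]), (3, [6, 5, 4, 3]), (3, [5, 4, 3]), (3, [4, 3]), (3, [3]), (4, [7, 6, 5, 4]), (4, [6, 5, 4]), (4, [5, 4]), (4, [4]), (5, [7, 6, 5]), (5, [6, 5]), (5, [5]), (6, [7, 6]), (6, [6]), (7, [7]), (7, []), (6, []), (6, [7]), (5, []), (5, [6]), (5, [7, 6]), (4, []), (4, [5]), (4, [6, 5]), (4, [7, 6, 5]), (3, []), (3, [4]), (3, [5, 4]), (3, [6, 5, 4]), (3, [7, 6, 5, 4]), (2, []), (2, [3]), (2, [4, 3]), (2, [5, 4, 3]), (2, [6, 5, 4, 3]), (2, [7, 6, 5, 4, 3]), (1, []), (1, [3]), (1, [4, 3]), (1, [5,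 4, 3]), (1, [6, 5, 4, 3]), (1, [7, 6, 5, 4, 3]), (1, [2, 3]), (1, [4, 2, 3]), (1, [5, 4, 2, 3]), (1, [6, 5, 4, 2, 3]), (1, [7, 6, 5, 4, 2, 3]), (1, [3, 4, 2, 3]), (1, [5, 3, 4, 2, 3]), (1, [6, 5, 3, 4, 2, 3]), (1, [7, 6, 5, 3, 4, 2, 3]), (1, [4, 5, 3, 4, 2, 3]), (1, [6, 4, 5, 3, 4, 2, 3]), (1, [7, 6, 4, 5, 3, 4, 2, 3]), (1, [5, 6, 4, 5, 3, 4, 2, 3]), (1, [7, 5, 6, 4, 5, 3, 4, 2, 3]), (1, [6, 7, 5, 6, 4, 5, 3, 4, 2, 3]), (0, []), (0, [2]), (0, [3, 2]), (0, [4, 3, 2]), (0, [5, 4, 3, 2]), (0, [6, 5, 4, 3, 2]), (0, [7, 6, 5, 4, 3, 2]), (0, [1, 3, 2]), (0, [4, 1, 3, 2]), (0, [5, 4, 1, 3, 2]), (0, [6, 5, 4, 1, 3, 2]), (0, [7, 6, 5, 4, 1, 3, 2]), (0, [3, 4, 1, 3, 2]), (0, [5, 3, 4, 1, 3, 2]), (0, [6, 5,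 3, 4, 1, 3, 2]), (0, [7, 6, 5, 3, 4, 1, 3, 2]), (0, [4, 5, 3, 4, 1, 3, 2]), (0, [6, 4, 5, 3, 4, 1, 3, 2]), (0, [7, 6, 4, 5, 3, 4, 1, 3, 2]), (0, [5, 6, 4, 5, 3, 4, 1, 3, 2]), (0, [7, 5, 6, 4, 5, 3, 4, 1, 3, 2]), (0, [6, 7, 5, 6, 4, 5, 3, 4, 1, 3, 2]), (0, [2, 3, 4, 1, 3, 2]), (0, [5, 2, 3, 4, 1, 3, 2]), (0, [6, 5, 2, 3, 4, 1, 3, 2]), (0, [7, 6, 5, 2, 3, 4, 1, 3, 2]), (0, [4, 5, 2, 3, 4, 1, 3, 2]), (0, [6, 4, 5, 2, 3, 4, 1, 3, 2]), (0, [7, 6, 4, 5, 2, 3, 4, 1, 3, 2]), (0, [5, 6, 4, 5, 2, 3, 4, 1, 3, 2]), (0, [7, 5, 6, 4, 5, 2, 3, 4, 1, 3, 2]), (0, [6, 7, 5, 6, 4, 5, 2, 3, 4, 1, 3, 2]), (0, [3, 4, 5, 2, 3, 4, 1, 3, 2]), (0, [6, 3, 4, 5, 2, 3, 4, 1, 3, 2]), (0, [7, 6, 3, 4, 5, 2, 3, 4, 1, 3, 2]), (0,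 [5, 6, 3, 4, 5, 2, 3, 4, 1, 3, 2]), (0, [7, 5, 6, 3, 4, 5, 2, 3, 4, 1, 3, 2]), (0, [6, 7, 5, 6, 3, 4, 5, 2, 3, 4, 1, 3, 2]), (0, [4, 5, 6, 3, 4, 5, 2, 3, 4, 1, 3, 2]), (0, [7, 4, 5, 6, 3, 4, 5, 2, 3, 4, 1, 3, 2]), (0, [6, 7, 4, 5, 6, 3, 4, 5, 2, 3, 4, 1, 3, 2]), (0, [5, 6, 7, 4, 5, 6, 3, 4, 5, 2, 3, 4, 1, 3, 2]), (0, [1, 3, 4, 5, 2, 3, 4, 1, 3, 2]), (0, [6, 1, 3, 4, 5, 2, 3, 4, 1, 3, 2]), (0, [7, 6, 1, 3, 4, 5, 2, 3, 4, 1, 3, 2]), (0, [5, 6, 1, 3, 4, 5, 2, 3, 4, 1, 3, 2]), (0, [7, 5, 6, 1, 3, 4, 5, 2, 3, 4, 1, 3, 2]), (0, [6, 7, 5, 6, 1, 3, 4, 5, 2, 3, 4, 1, 3, 2]), (0, [4, 5, 6, 1, 3, 4, 5, 2, 3, 4, 1, 3, 2]), (0, [7, 4, 5, 6, 1, 3, 4, 5, 2, 3, 4, 1, 3, 2]), (0, [6, 7, 4, 5, 6, 1, 3, 4, 5, 2, 3,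 4, 1, 3, 2]), (0, [5, 6, 7, 4, 5, 6, 1, 3, 4, 5, 2, 3, 4, 1, 3, 2]), (0, [3, 4, 5, 6, 1, 3, 4, 5, 2, 3, 4, 1, 3, 2]), (0, [7, 3, 4, 5, 6, 1, 3, 4, 5, 2, 3, 4, 1, 3, 2]), (0, [6, 7, 3, 4, 5, 6, 1, 3, 4, 5, 2, 3, 4, 1, 3, 2]), (0, [5, 6, 7, 3, 4, 5, 6, 1, 3, 4, 5, 2, 3, 4, 1, 3, 2]), (0, [4, 5, 6, 7, 3, 4, 5, 6, 1, 3, 4, 5, 2, 3, 4, 1, 3, 2]), (0, [2, 3, 4, 5, 6, 1, 3, 4, 5, 2, 3, 4, 1, 3, 2]), (0, [7, 2, 3, 4, 5, 6, 1, 3, 4, 5, 2, 3, 4, 1, 3, 2]), (0, [6, 7, 2, 3, 4, 5, 6, 1, 3, 4, 5, 2, 3, 4, 1, 3, 2]), (0, [5, 6, 7, 2, 3, 4, 5, 6, 1, 3, 4, 5, 2, 3, 4, 1, 3, 2]), (0, [4, 5, 6, 7, 2, 3, 4, 5, 6, 1, 3, 4, 5, 2, 3, 4, 1, 3, 2]), (0, [3, 4, 5, 6, 7, 2, 3, 4, 5, 6, 1, 3, 4, 5, 2, 3, 4, 1, 3, 2]), (0,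 [1, 3, 4, 5, 6, 7, 2, 3, 4, 5, 6, 1, 3, 4, 5, 2, 3, 4, 1, 3, 2]), (0, [0, 2, 3, 4, 5, 6, 1, 3, 4, 5, 2, 3, 4, 1, 3, 2]), (0, [7, 0, 2, 3, 4, 5, 6, 1, 3, 4, 5, 2, 3, 4, 1, 3, 2]), (0, [6, 7, 0, 2, 3, 4, 5, 6, 1, 3, 4, 5, 2, 3, 4, 1, 3, 2]), (0, [5, 6, 7, 0, 2, 3, 4, 5, 6, 1, 3, 4, 5, 2, 3, 4, 1, 3, 2]), (0, [4, 5, 6, 7, 0, 2, 3, 4, 5, 6, 1, 3, 4, 5, 2, 3, 4, 1, 3, 2]), (0, [3, 4, 5, 6, 7, 0, 2, 3, 4, 5, 6, 1, 3, 4, 5, 2, 3, 4, 1, 3, 2]), (0, [2, 3, 4, 5, 6, 7, 0, 2, 3, 4, 5, 6, 1, 3, 4, 5, 2, 3, 4, 1, 3, 2]), (0, [1, 3, 4, 5, 6, 7, 0, 2, 3, 4, 5, 6, 1, 3, 4, 5, 2, 3, 4, 1, 3, 2]), (0, [2, 1, 3, 4, 5, 6, 7, 0, 2, 3, 4, 5, 6, 1, 3, 4, 5, 2, 3, 4, 1, 3, 2]), (0, [3, 2, 1, 3, 4, 5, 6, 7, 0, 2, 3, 4,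 5, 6, 1, 3, 4, 5, 2, 3, 4, 1, 3, 2]), (0, [4, 3, 2, 1, 3, 4, 5, 6, 7, 0, 2, 3, 4, 5, 6, 1, 3, 4, 5, 2, 3, 4, 1, 3, 2]), (0, [5, 4, 3, 2, 1, 3, 4, 5, 6, 7, 0, 2, 3, 4, 5, 6, 1, 3, 4, 5, 2, 3, 4, 1, 3, 2]), (0, [6, 5, 4, 3, 2, 1, 3, 4, 5, 6, 7, 0, 2, 3, 4, 5, 6, 1, 3, 4, 5, 2, 3, 4, 1, 3, 2]), (0, [7, 6, 5, 4, 3, 2, 1, 3, 4, 5, 6, 7, 0, 2, 3, 4, 5, 6, 1, 3, 4, 5, 2, 3, 4, 1, 3, 2])] = true := by decide +kernel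

/-- Every root is the image of a fundamental root under a product of fundamental reflections. -/
theorem exists_reach (D : ChevalleyDatum) (hD : Std7 D) (r : ℕ) (hr : r < D.nroots) :
    ∃ j, j < D.rank ∧ ∃ l : List ℕ, (∀ i ∈ l, i < D.rank) ∧ reflWord D l (D.simple j) = r := by
  have hD' := hD
  simp only [Std7, List.mem_cons, List.mem_nil_iff, or_false] at hD'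
  rcases hD' with rfl | rfl | rfl | rfl | rfl | rfl | rfl
  · exact reach_sound _ hD _ reachChk_G2 r hr
  · exact reach_sound _ hD _ reachChk_B2 r hr
  · exact reach_sound _ hD _ reachChk_D4 r hr
  · exact reach_sound _ hD _ reachChk_F4 r hr
  · exact reach_sound _ hD _ reachChk_E6 r hr
  · exact reach_sound _ hD _ reachChk_E7 r hr
  · exact reach_sound _ hD _ reachChk_E8 r hr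

end Cfsg.Agent.Helper8
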