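import Mathlib

set_option autoImplicit false

namespace Cfsg.Agent.Helper8

open Equiv Function

variable {α : Type*} [DecidableEq α] [Fintype α]

/-- period of a point under a permutation -/
noncomputable def pper (x : Perm α) (a : α) : ℕ := minimalPeriod (⇑x) a

theorem pper_periodic (x : Perm α) (a : α) : a ∈ periodicPts (⇑x) := by
  refine mk_mem_periodicPts (orderOf_pos x) ?_
  show (⇑x)^[orderOf x] a = a
  rw [Perm.iterate_eq_pow, pow_orderOf_eq_one]; rfl

theorem pper_pos (x : Perm α) (a : α) : 0 < pper x a :=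
  minimalPeriod_pos_of_mem_periodicPts (pper_periodic x a)

theorem pper_apply (x : Perm α) (a : α) : pper x (x a) = pper x a :=
  minimalPeriod_apply (pper_periodic x a)

theorem pper_eq_one (x : Perm α) (a : α) : pper x a = 1 ↔ x a = a := by
  unfold pper; rw [minimalPeriod_eq_one_iff_isFixedPt]; rfl

/-- all periods on `S` are powers of two, at most two fixed points, at most one cycle of each length -/
def Good2 (x : Perm α) (S : Finset α) : Prop :=
  (∀ a ∈ S, ∃ j, pper x a = 2 ^ j) ∧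
  (S.filter (fun a => pper x a = 1)).card ≤ 2 ∧
  ∀ j, 1 ≤ j → (S.filter (fun a => pper x a = 2 ^ j)).card ≤ 2 ^ j

theorem Good2.mono {x : Perm α} {S A : Finset α} (h : Good2 x S) (hA : A ⊆ S) : Good2 x A :=
  ⟨fun a ha => h.1 a (hA ha),
   (Finset.card_le_card (Finset.filter_subset_filter _ hA)).trans h.2.1,
   fun j hj => (Finset.card_le_card (Finset.filter_subset_filter _ hA)).trans (h.2.2 j hj)⟩

theorem sy_iter_mem {x : Perm α} {A : Finset α} (hA : ∀ a ∈ A, x a ∈ A) {a : α} (ha : a ∈ A) (i : ℕ) :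
    (⇑x)^[i] a ∈ A := by
  induction i with
  | zero => simpa using ha
  | succ i ih => rw [Function.iterate_succ_apply']; exact hA _ ih

theorem sy_orbit_card_le {x : Perm α} {A : Finset α} (hA : ∀ a ∈ A, x a ∈ A) {a : α} (ha : a ∈ A) :
    pper x a ≤ (A.filter (fun c => pper x c = pper x a)).card := by
  have := Finset.card_le_card_of_injOn (s := Finset.range (pper x a))
    (t := A.filter (fun c => pper x c = pper x a)) (fun i => (⇑x)^[i] a) ?_ ?_
  · simpa using this
  · intro i _
    simp only [Finset.coe_filter, Set.mem_setOf_eq]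
    exact ⟨sy_iter_mem hA ha i, minimalPeriod_apply_iterate (pper_periodic x a) i⟩
  · intro i hi j hj hij
    have hi' : i < minimalPeriod (⇑x) a := by simpa [pper] using hi
    have hj' : j < minimalPeriod (⇑x) a := by simpa [pper] using hj
    exact iterate_injOn_Iio_minimalPeriod hi' hj' hij

theorem sy_sum_bound (c : ℕ → ℕ) (hc : ∀ j, 1 ≤ j → c j ≤ 2 ^ j) (e : ℕ) :
    ∑ j ∈ Finset.range (e + 1), c j + 2 ≤ c 0 + 2 ^ (e + 1) := by
  induction e with
  | zero => simp
  | succ e ih =>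
    rw [Finset.sum_range_succ]
    have := hc (e + 1) (by omega)
    have h2 : 2 ^ (e + 1 + 1) = 2 ^ (e + 1) + 2 ^ (e + 1) := by ring
    omega

theorem sy_card_bound {x : Perm α} {A : Finset α} (hg : Good2 x A) (e : ℕ)
    (he : ∀ a ∈ A, pper x a ≤ 2 ^ e) :
    A.card + 2 ≤ (A.filter (fun a => pper x a = 1)).card + 2 ^ (e + 1) := by
  have hsub : A ⊆ (Finset.range (e + 1)).biUnion (fun j => A.filter (fun a => pper x a = 2 ^ j)) := by
    intro a ha
    obtain ⟨j, hj⟩ := hg.1 a ha
    have hje : j ≤ e := by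
      have := he a ha
      rw [hj] at this
      exact (Nat.pow_le_pow_iff_right (by norm_num)).mp this
    simp only [Finset.mem_biUnion, Finset.mem_range, Finset.mem_filter]
    exact ⟨j, by omega, ha, hj⟩
  have h1 := (Finset.card_le_card hsub).trans Finset.card_biUnion_le
  have h2 := sy_sum_bound (fun j => (A.filter (fun a => pper x a = 2 ^ j)).card)
    (fun j hj => hg.2.2 j hj) e
  simp only [pow_zero] at h2
  omega

theorem sy_key1 {x : Perm α} {A : Finset α} (hg : Good2 x A) (hA : ∀ a ∈ A, x a ∈ A)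
    (hne : A.Nonempty) :
    ∃ e, ∃ a ∈ A, pper x a = 2 ^ e ∧ (∀ b ∈ A, pper x b ≤ 2 ^ e) ∧ 2 ^ e ≤ A.card ∧
      A.card + 2 ≤ (A.filter (fun a => pper x a = 1)).card + 2 ^ (e + 1) := by
  obtain ⟨a, ha, hmax⟩ := Finset.exists_max_image A (fun a => pper x a) hne
  obtain ⟨e, he⟩ := hg.1 a ha
  refine ⟨e, a, ha, he, fun b hb => he ▸ hmax b hb, ?_,
    sy_card_bound hg e (fun b hb => he ▸ hmax b hb)⟩
  rw [← he]
  exact (sy_orbit_card_le hA ha).trans (Finset.card_le_card (Finset.filter_subset _ _))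

theorem sy_two_orbits {x : Perm α} {S A B : Finset α} (hg : Good2 x S) (hAS : A ⊆ S) (hBS : B ⊆ S)
    (hA : ∀ a ∈ A, x a ∈ A) (hB : ∀ a ∈ B, x a ∈ B) (hd : Disjoint A B)
    {a b : α} (ha : a ∈ A) (hb : b ∈ B) {e : ℕ} (he : 1 ≤ e) (hpa : pper x a = 2 ^ e)
    (hpb : pper x b = 2 ^ e) : False := by
  have h1 := sy_orbit_card_le hA ha
  have h2 := sy_orbit_card_le hB hb
  rw [hpa] at h1; rw [hpb] at h2
  have h3 : (A.filter (fun c => pper x c = 2 ^ e)).card + (B.filter (fun c => pper x c = 2 ^ e)).card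
      ≤ (S.filter (fun c => pper x c = 2 ^ e)).card := by
    rw [← Finset.card_union_of_disjoint (Finset.disjoint_filter_filter hd)]
    apply Finset.card_le_card
    intro c hc
    simp only [Finset.mem_union, Finset.mem_filter] at hc ⊢
    rcases hc with ⟨h, h'⟩ | ⟨h, h'⟩
    · exact ⟨hAS h, h'⟩
    · exact ⟨hBS h, h'⟩
  have h4 := hg.2.2 e he
  have : 0 < 2 ^ e := by positivity
  omega

theorem sy_ts_aux {x : Perm α} {S A B C : Finset α} (hg : Good2 x S) (hAS : A ⊆ S) (hBS : B ⊆ S)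
    (hCS : C ⊆ S)
    (hA : ∀ a ∈ A, x a ∈ A) (hB : ∀ a ∈ B, x a ∈ B) (hC : ∀ a ∈ C, x a ∈ C)
    (hAB : Disjoint A B) (hAC : Disjoint A C) (hBC : Disjoint B C)
    (hcAB : A.card = B.card) (hcBC : B.card = C.card)
    {a b : α} (ha : a ∈ A) (hb : b ∈ B) {e : ℕ} (hpa : pper x a = 2 ^ e) (hpb : pper x b = 2 ^ e)
    (hmA : ∀ c ∈ A, pper x c ≤ 2 ^ e) (hmB : ∀ c ∈ B, pper x c ≤ 2 ^ e) : False := by
  rcases Nat.eq_zero_or_pos e with h0 | hpos
  · subst h0
    have hfA : ∀ c ∈ A, pper x c = 1 := fun c hc => by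
      have h1 := hmA c hc; have h2 := pper_pos x c; simp only [pow_zero] at h1; omega
    have hfB : ∀ c ∈ B, pper x c = 1 := fun c hc => by
      have h1 := hmB c hc; have h2 := pper_pos x c; simp only [pow_zero] at h1; omega
    have hsub : A ∪ B ⊆ S.filter (fun c => pper x c = 1) := by
      intro c hc
      rw [Finset.mem_union] at hc
      rw [Finset.mem_filter]
      rcases hc with h | h
      · exact ⟨hAS h, hfA c h⟩
      · exact ⟨hBS h, hfB c h⟩
    have h1 := Finset.card_le_card hsub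
    rw [Finset.card_union_of_disjoint hAB] at h1
    have h2 := hg.2.1
    have hA1 : 0 < A.card := Finset.card_pos.mpr ⟨a, ha⟩
    have hC1 : C.card = 1 := by omega
    obtain ⟨c, hc⟩ := Finset.card_eq_one.mp hC1
    have hcc : x c = c := by
      have := hC c (by rw [hc]; simp)
      rw [hc] at this; simpa using this
    have hsub2 : A ∪ B ∪ C ⊆ S.filter (fun c => pper x c = 1) := by
      intro d hd
      rw [Finset.mem_union] at hd
      rcases hd with h | h
      · exact hsub h
      · rw [hc, Finset.mem_singleton] at h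
        subst h
        rw [Finset.mem_filter]
        exact ⟨hCS (by rw [hc]; simp), (pper_eq_one x d).mpr hcc⟩
    have h3 := Finset.card_le_card hsub2
    rw [Finset.card_union_of_disjoint (by
      rw [Finset.disjoint_union_left]; exact ⟨hAC, hBC⟩), Finset.card_union_of_disjoint hAB] at h3
    omega
  · exact sy_two_orbits hg hAS hBS hA hB hAB ha hb hpos hpa hpb

theorem sy_three_sets {x : Perm α} {S A B C : Finset α} (hg : Good2 x S) (hAS : A ⊆ S) (hBS : B ⊆ S)
    (hCS : C ⊆ S)
    (hA : ∀ a ∈ A, x a ∈ A) (hB : ∀ a ∈ B, x a ∈ B) (hC : ∀ a ∈ C, x a ∈ C)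
    (hAB : Disjoint A B) (hAC : Disjoint A C) (hBC : Disjoint B C)
    (hcAB : A.card = B.card) (hcBC : B.card = C.card) (hne : A.Nonempty) : False := by
  have hBne : B.Nonempty := by rw [← Finset.card_pos, ← hcAB, Finset.card_pos]; exact hne
  have hCne : C.Nonempty := by rw [← Finset.card_pos, ← hcBC, Finset.card_pos]; exact hBne
  obtain ⟨eA, a, ha, hpa, hmA, hlA, huA⟩ := sy_key1 (hg.mono hAS) hA hne
  obtain ⟨eB, b, hb, hpb, hmB, hlB, huB⟩ := sy_key1 (hg.mono hBS) hB hBne
  obtain ⟨eC, c, hc, hpc, hmC, hlC, huC⟩ := sy_key1 (hg.mono hCS) hC hCne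
  have fA := (hg.mono hAS).2.1
  have fB := (hg.mono hBS).2.1
  have fC := (hg.mono hCS).2.1
  have close : ∀ {e e' s : ℕ}, 2 ^ e ≤ s → s ≤ 2 ^ (e' + 1) → e ≤ e' + 1 := fun h1 h2 =>
    (Nat.pow_le_pow_iff_right (by norm_num)).mp (h1.trans h2)
  have hAB' := close hlA (show A.card ≤ 2 ^ (eB + 1) by omega)
  have hBA' := close hlB (show B.card ≤ 2 ^ (eA + 1) by omega)
  have hAC' := close hlA (show A.card ≤ 2 ^ (eC + 1) by omega)
  have hCA' := close hlC (show C.card ≤ 2 ^ (eA + 1) by omega)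
  have hBC' := close hlB (show B.card ≤ 2 ^ (eC + 1) by omega)
  have hCB' := close hlC (show C.card ≤ 2 ^ (eB + 1) by omega)
  have : eA = eB ∨ eB = eC ∨ eA = eC := by omega
  rcases this with h | h | h
  · subst h
    exact sy_ts_aux hg hAS hBS hCS hA hB hC hAB hAC hBC hcAB hcBC ha hb hpa hpb hmA hmB
  · subst h
    exact sy_ts_aux hg hBS hCS hAS hB hC hA hBC hAB.symm hAC.symm hcBC (by omega) hb hc hpb hpc
      hmB hmC
  · subst h
    exact sy_ts_aux hg hAS hCS hBS hA hC hB hAC hAB hBC.symm (by omega) (by omega) ha hc hpa hpc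
      hmA hmC

theorem sy_two_sets {x : Perm α} {S A B : Finset α} (hg : Good2 x S) (hAS : A ⊆ S) (hBS : B ⊆ S)
    (hA : ∀ a ∈ A, x a ∈ A) (hB : ∀ a ∈ B, x a ∈ B) (hAB : Disjoint A B)
    (hc : A.card = B.card) (hne : A.Nonempty) (hfA : ∀ a ∈ A, x a ≠ a) (hfB : ∀ a ∈ B, x a ≠ a) :
    False := by
  have hBne : B.Nonempty := by rw [← Finset.card_pos, ← hc, Finset.card_pos]; exact hne
  obtain ⟨eA, a, ha, hpa, hmA, hlA, huA⟩ := sy_key1 (hg.mono hAS) hA hne
  obtain ⟨eB, b, hb, hpb, hmB, hlB, huB⟩ := sy_key1 (hg.mono hBS) hB hBne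
  have fA : (A.filter (fun a => pper x a = 1)).card = 0 := by
    rw [Finset.card_eq_zero, Finset.filter_eq_empty_iff]
    intro c hc h; exact hfA c hc ((pper_eq_one x c).mp h)
  have fB : (B.filter (fun a => pper x a = 1)).card = 0 := by
    rw [Finset.card_eq_zero, Finset.filter_eq_empty_iff]
    intro c hc h; exact hfB c hc ((pper_eq_one x c).mp h)
  have h1 : eA ≤ eB := by
    have : 2 ^ eA < 2 ^ (eB + 1) := by omega
    have := (Nat.pow_lt_pow_iff_right (by norm_num)).mp this
    omega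
  have h2 : eB ≤ eA := by
    have : 2 ^ eB < 2 ^ (eA + 1) := by omega
    have := (Nat.pow_lt_pow_iff_right (by norm_num)).mp this
    omega
  have he : eA = eB := le_antisymm h1 h2
  subst he
  have hpos : 1 ≤ eA := by
    rcases Nat.eq_zero_or_pos eA with h0 | h0
    · subst h0
      exact absurd ((pper_eq_one x a).mp (by simpa using hpa)) (hfA a ha)
    · exact h0
  exact sy_two_orbits hg hAS hBS hA hB hAB ha hb hpos hpa hpb

theorem sy_good_sq {x : Perm α} {S O₁ O₂ : Finset α} (hg : Good2 x S) (h1 : O₁ ⊆ S) (h2 : O₂ ⊆ S)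
    (hd : Disjoint O₁ O₂) (hx : ∀ b ∈ O₁, x b ∈ O₂) : Good2 (x * x) O₁ := by
  have hper : ∀ b ∈ O₁, ∃ j, pper x b = 2 ^ (j + 1) ∧ pper (x * x) b = 2 ^ j := by
    intro b hb
    obtain ⟨j, hj⟩ := hg.1 b (h1 hb)
    have hne : x b ≠ b := fun h => (Finset.disjoint_left.mp hd hb) (h ▸ hx b hb)
    rcases Nat.eq_zero_or_pos j with h0 | h0
    · subst h0; exact absurd ((pper_eq_one x b).mp (by simpa using hj)) hne
    · obtain ⟨i, rfl⟩ : ∃ i, j = i + 1 := ⟨j - 1, by omega⟩
      refine ⟨i, hj, ?_⟩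
      have hxx : (⇑(x * x)) = (⇑x)^[2] := by ext z; simp
      unfold pper at hj ⊢
      rw [hxx, minimalPeriod_iterate_eq_div_gcd (by norm_num), hj]
      have : Nat.gcd (2 ^ (i + 1)) 2 = 2 := by
        rw [pow_succ]; simp
      rw [this, pow_succ]; simp
  have hcount : ∀ j, (O₁.filter (fun b => pper (x * x) b = 2 ^ j)).card * 2 ≤ 2 ^ (j + 1) := by
    intro j
    set E := O₁.filter (fun b => pper x b = 2 ^ (j + 1)) with hE
    have hsub : O₁.filter (fun b => pper (x * x) b = 2 ^ j) ⊆ E := by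
      intro b hb
      rw [Finset.mem_filter] at hb
      obtain ⟨i, hi1, hi2⟩ := hper b hb.1
      have hb2 := hb.2
      rw [hi2] at hb2
      have : i = j := Nat.pow_right_injective (le_refl 2) hb2
      subst this
      rw [hE, Finset.mem_filter]; exact ⟨hb.1, hi1⟩
    have hE' : E.image x ⊆ O₂.filter (fun b => pper x b = 2 ^ (j + 1)) := by
      intro c hc
      rw [Finset.mem_image] at hc
      obtain ⟨b, hb, rfl⟩ := hc
      rw [hE, Finset.mem_filter] at hb
      rw [Finset.mem_filter]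
      exact ⟨hx b hb.1, by rw [pper_apply]; exact hb.2⟩
    have hcard : (E.image x).card = E.card := Finset.card_image_of_injective _ x.injective
    have hun : E ∪ E.image x ⊆ S.filter (fun b => pper x b = 2 ^ (j + 1)) := by
      intro c hc
      rw [Finset.mem_union] at hc
      rcases hc with h | h
      · rw [hE, Finset.mem_filter] at h
        rw [Finset.mem_filter]; exact ⟨h1 h.1, h.2⟩
      · have := hE' h
        rw [Finset.mem_filter] at this ⊢
        exact ⟨h2 this.1, this.2⟩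
    have hdisj : Disjoint E (E.image x) := by
      rw [Finset.disjoint_left]
      intro c hc hc'
      have h3 := hE' hc'
      rw [hE, Finset.mem_filter] at hc
      rw [Finset.mem_filter] at h3
      exact Finset.disjoint_left.mp hd hc.1 h3.1
    have h4 := Finset.card_le_card hun
    rw [Finset.card_union_of_disjoint hdisj, hcard] at h4
    have h5 := hg.2.2 (j + 1) (by omega)
    have h6 := Finset.card_le_card hsub
    omega
  refine ⟨fun b hb => ?_, ?_, fun j hj => ?_⟩
  · obtain ⟨j, _, hj⟩ := hper b hb; exact ⟨j, hj⟩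
  · have := hcount 0
    simp only [pow_zero, zero_add, pow_one] at this
    omega
  · have := hcount j
    have h2 : 2 ^ (j + 1) = 2 ^ j * 2 := by ring
    omega

end Cfsg.Agent.Helper8
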