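import Cfsg.Agent.Helper8.SyA

set_option autoImplicit false

namespace Cfsg.Agent.Helper8

open Equiv Function

variable {α : Type*} [DecidableEq α] [Fintype α]

/-- `M` is a subgroup of index two of `D` containing the stabilizer of `a` -/
structure IsHalf (D M : Subgroup (Perm α)) (a : α) : Prop where
  le : M ≤ D
  stab : ∀ d ∈ D, d a = a → d ∈ M
  two : ∀ d e, d ∈ D → e ∈ D → d ∉ M → e ∉ M → d * e ∈ M
  ne : ∃ d ∈ D, d ∉ M

/-- orbit of `a` under `M` -/
noncomputable def orb (M : Subgroup (Perm α)) (a : α) : Finset α :=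
  open Classical in Finset.univ.filter (fun b => ∃ m ∈ M, m a = b)

theorem mem_orb {M : Subgroup (Perm α)} {a b : α} : b ∈ orb M a ↔ ∃ m ∈ M, m a = b := by
  classical
  simp [orb]

theorem IsHalf.mem_iff {D M : Subgroup (Perm α)} {a : α} (h : IsHalf D M a) {e : Perm α}
    (he : e ∈ D) : e a ∈ orb M a ↔ e ∈ M := by
  rw [mem_orb]
  constructor
  · rintro ⟨m, hm, hme⟩
    have : m⁻¹ * e ∈ M := h.stab _ (D.mul_mem (D.inv_mem (h.le hm)) he) (by
      rw [Perm.mul_apply, ← hme]; simp)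
    have := M.mul_mem hm this
    simpa using this
  · intro hm; exact ⟨e, hm, rfl⟩

theorem IsHalf.flip {D M : Subgroup (Perm α)} {a : α} (h : IsHalf D M a) {d : Perm α} (hd : d ∈ D)
    {b : α} (hb : ∃ e ∈ D, e a = b) :
    (d b ∈ orb M a ↔ b ∈ orb M a) ↔ d ∈ M := by
  obtain ⟨e, he, rfl⟩ := hb
  rw [h.mem_iff he, show d (e a) = (d * e) a from rfl, h.mem_iff (D.mul_mem hd he)]
  constructor
  · intro hiff
    by_contra hd'
    by_cases hem : e ∈ M
    · exact hd' (by have := M.mul_mem (hiff.mpr hem) (M.inv_mem hem); simpa using this)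
    · exact hem (hiff.mp (h.two d e hd he hd' hem))
  · intro hdM
    exact ⟨fun h1 => by have := M.mul_mem (M.inv_mem hdM) h1; simpa using this,
      fun h1 => M.mul_mem hdM h1⟩

theorem IsHalf.conj_mem {D M : Subgroup (Perm α)} {a : α} (h : IsHalf D M a) {d m : Perm α}
    (hd : d ∈ D) (hm : m ∈ M) : d * m * d⁻¹ ∈ M := by
  by_cases hdM : d ∈ M
  · exact M.mul_mem (M.mul_mem hdM hm) (M.inv_mem hdM)
  · refine h.two _ _ (D.mul_mem hd (h.le hm)) (D.inv_mem hd) ?_ ?_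
    · intro h1; exact hdM (by have := M.mul_mem h1 (M.inv_mem hm); simpa using this)
    · intro h1; exact hdM (by simpa using M.inv_mem h1)

theorem IsHalf.stab' {D M : Subgroup (Perm α)} {a : α} (h : IsHalf D M a) {d e : Perm α}
    (hd : d ∈ D) (he : e ∈ D) (hfix : d (e a) = e a) : d ∈ M := by
  have h1 : e⁻¹ * d * e ∈ M := h.stab _ (D.mul_mem (D.mul_mem (D.inv_mem he) hd) he) (by
    simp [Perm.mul_apply, hfix])
  have := h.conj_mem he h1
  simpa [mul_assoc] using this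

theorem exists_half {D : Subgroup (Perm α)} (hD : IsPGroup 2 D) {a : α}
    (hmove : ∃ d ∈ D, d a ≠ a) : ∃ M, IsHalf D M a := by
  haveI : Fact (Nat.Prime 2) := ⟨Nat.prime_two⟩
  let H : Subgroup D := (MulAction.stabilizer (Perm α) a).subgroupOf D
  obtain ⟨N, hN⟩ := IsPGroup.iff_card.mp hD
  obtain ⟨k, hk⟩ := IsPGroup.iff_card.mp (hD.to_subgroup H)
  have hHne : H ≠ ⊤ := by
    intro htop
    obtain ⟨d, hd, hda⟩ := hmove
    have : (⟨d, hd⟩ : D) ∈ H := htop ▸ Subgroup.mem_top _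
    rw [Subgroup.mem_subgroupOf, MulAction.mem_stabilizer_iff] at this
    exact hda this
  have hkN : k < N := by
    have h1 : Nat.card H ≤ Nat.card D := Subgroup.card_le_card_group H
    have h2 : Nat.card H ≠ Nat.card D := fun h => hHne ((Subgroup.card_eq_iff_eq_top H).mp h)
    rw [hk, hN] at h1 h2
    have : 2 ^ k < 2 ^ N := lt_of_le_of_ne h1 h2
    exact (Nat.pow_lt_pow_iff_right (by norm_num)).mp this
  obtain ⟨K, hK, hHK⟩ := Sylow.exists_subgroup_card_pow_prime_le 2 (n := k) (m := N - 1)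
    (by rw [hN]; exact pow_dvd_pow 2 (by omega)) H hk (by omega)
  have hidx : K.index = 2 := by
    have := Subgroup.card_mul_index K
    rw [hK, hN] at this
    have h2 : 2 ^ N = 2 ^ (N - 1) * 2 := by
      rw [← pow_succ]; congr 1; omega
    rw [h2] at this
    exact Nat.eq_of_mul_eq_mul_left (by positivity) this
  have hmem : ∀ (d : Perm α) (hd : d ∈ D), d ∈ K.map D.subtype ↔ (⟨d, hd⟩ : D) ∈ K := by
    intro d hd
    rw [Subgroup.mem_map]
    constructor
    · rintro ⟨y, hy, rfl⟩; exact hy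
    · intro h; exact ⟨⟨d, hd⟩, h, rfl⟩
  refine ⟨K.map D.subtype, ?_, ?_, ?_, ?_⟩
  · exact Subgroup.map_subtype_le K
  · intro d hd hda
    rw [hmem d hd]
    apply hHK
    rw [Subgroup.mem_subgroupOf, MulAction.mem_stabilizer_iff]; exact hda
  · intro d e hd he hdM heM
    rw [hmem d hd] at hdM
    rw [hmem e he] at heM
    rw [hmem (d * e) (D.mul_mem hd he)]
    exact (Subgroup.mul_mem_iff_of_index_two hidx (a := (⟨d, hd⟩ : D)) (b := ⟨e, he⟩)).mpr
      ⟨fun h => absurd h hdM, fun h => absurd h heM⟩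
  · have : K ≠ ⊤ := by
      intro h; rw [h, Subgroup.index_top] at hidx; omega
    obtain ⟨d, hd⟩ : ∃ d : D, d ∉ K := by
      by_contra hcon; push_neg at hcon
      exact this (eq_top_iff.mpr fun d _ => hcon d)
    exact ⟨d.1, d.2, fun h => hd ((hmem d.1 d.2).mp h)⟩

theorem sy_card_eq_of_swap {A B : Finset α} (e : Perm α) (h1 : ∀ b ∈ A, e b ∈ B)
    (h2 : ∀ b ∈ B, e b ∈ A) : A.card = B.card :=
  le_antisymm (Finset.card_le_card_of_injOn e h1 e.injective.injOn)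
    (Finset.card_le_card_of_injOn e h2 e.injective.injOn)

theorem sy_flip_contra {x : Perm α} {S W : Finset α} (hg : Good2 x S) (hWS : W ⊆ S)
    (hxW : ∀ b ∈ S, (x b ∈ W ↔ b ∈ W)) (hxS : ∀ b ∈ S, x b ∈ S) (hfix : ∀ b ∈ S, x b ≠ b)
    (e : Perm α) (heS : ∀ b ∈ S, e b ∈ S) (heW : ∀ b ∈ S, (e b ∈ W ↔ b ∉ W)) (hne : S.Nonempty) :
    False := by
  have hc : W.card = (S \ W).card := by
    refine sy_card_eq_of_swap e ?_ ?_
    · intro b hb
      rw [Finset.mem_sdiff]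
      exact ⟨heS b (hWS hb), fun h => ((heW b (hWS hb)).mp h) hb⟩
    · intro b hb
      rw [Finset.mem_sdiff] at hb
      exact (heW b hb.1).mpr hb.2
  have hWne : W.Nonempty := by
    rw [← Finset.card_pos]
    have h1 := Finset.card_sdiff_add_card_eq_card hWS
    have h2 := Finset.card_pos.mpr hne
    omega
  refine sy_two_sets hg hWS Finset.sdiff_subset ?_ ?_ Finset.disjoint_sdiff hc hWne
    (fun a ha => hfix a (hWS ha)) (fun a ha => hfix a (Finset.sdiff_subset ha))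
  · intro b hb; exact (hxW b (hWS hb)).mpr hb
  · intro b hb
    rw [Finset.mem_sdiff] at hb ⊢
    exact ⟨hxS b hb.1, fun h => hb.2 ((hxW b hb.1).mp h)⟩

theorem half_unique {x : Perm α} {S : Finset α} (hg : Good2 x S) {D M M' : Subgroup (Perm α)}
    {a : α} (hxD : x ∈ D) (hDS : ∀ d ∈ D, ∀ s ∈ S, d s ∈ S) (htr : ∀ b ∈ S, ∃ d ∈ D, d a = b)
    (haS : a ∈ S) (h : IsHalf D M a) (h' : IsHalf D M' a) : M ≤ M' := by
  classical
  by_contra hnot
  obtain ⟨e₀, he₀M, he₀M'⟩ := SetLike.not_le_iff_exists.mp hnot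
  have he₀D := h.le he₀M
  obtain ⟨e₁, he₁M', he₁M⟩ : ∃ e₁ ∈ M', e₁ ∉ M := by
    by_contra hcon; push_neg at hcon
    obtain ⟨d, hdD, hdM⟩ := h.ne
    have hdM' : d ∉ M' := fun hh => hdM (hcon d hh)
    have := h'.two d e₀ hdD he₀D hdM' he₀M'
    have h3 := hcon _ this
    exact hdM (by have := M.mul_mem h3 (M.inv_mem he₀M); simpa using this)
  have he₁D := h'.le he₁M'
  set O := orb M a with hO
  set O' := orb M' a with hO'
  have hOS : O ⊆ S := by
    intro b hb; rw [hO, mem_orb] at hb; obtain ⟨m, hm, rfl⟩ := hb; exact hDS m (h.le hm) a haS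
  have hO'S : O' ⊆ S := by
    intro b hb; rw [hO', mem_orb] at hb; obtain ⟨m, hm, rfl⟩ := hb; exact hDS m (h'.le hm) a haS
  have fl : ∀ d ∈ D, ∀ b ∈ S, ((d b ∈ O ↔ b ∈ O) ↔ d ∈ M) := fun d hd b hb => h.flip hd (htr b hb)
  have fl' : ∀ d ∈ D, ∀ b ∈ S, ((d b ∈ O' ↔ b ∈ O') ↔ d ∈ M') :=
    fun d hd b hb => h'.flip hd (htr b hb)
  have haO : a ∈ O := mem_orb.mpr ⟨1, M.one_mem, rfl⟩
  have haO' : a ∈ O' := mem_orb.mpr ⟨1, M'.one_mem, rfl⟩
  have hxS : ∀ b ∈ S, x b ∈ S := fun b hb => hDS x hxD b hb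
  by_cases hxM : x ∈ M <;> by_cases hxM' : x ∈ M'
  · have ix : ∀ b ∈ S, (x b ∈ O ↔ b ∈ O) := fun b hb => (fl x hxD b hb).mpr hxM
    have ix' : ∀ b ∈ S, (x b ∈ O' ↔ b ∈ O') := fun b hb => (fl' x hxD b hb).mpr hxM'
    have i0 : ∀ b ∈ S, (e₀ b ∈ O ↔ b ∈ O) := fun b hb => (fl e₀ he₀D b hb).mpr he₀M
    have i0' : ∀ b ∈ S, (e₀ b ∈ O' ↔ b ∉ O') := fun b hb => by
      have := (fl' e₀ he₀D b hb).not.mpr he₀M'; tauto
    have i1 : ∀ b ∈ S, (e₁ b ∈ O ↔ b ∉ O) := fun b hb => by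
      have := (fl e₁ he₁D b hb).not.mpr he₁M; tauto
    have i1' : ∀ b ∈ S, (e₁ b ∈ O' ↔ b ∈ O') := fun b hb => (fl' e₁ he₁D b hb).mpr he₁M'
    have c1 : (O ∩ O').card = (O \ O').card := by
      refine sy_card_eq_of_swap e₀ ?_ ?_
      · intro b hb
        rw [Finset.mem_inter] at hb; rw [Finset.mem_sdiff]
        exact ⟨(i0 b (hOS hb.1)).mpr hb.1, fun hh => ((i0' b (hOS hb.1)).mp hh) hb.2⟩
      · intro b hb
        rw [Finset.mem_sdiff] at hb; rw [Finset.mem_inter]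
        exact ⟨(i0 b (hOS hb.1)).mpr hb.1, (i0' b (hOS hb.1)).mpr hb.2⟩
    have c2 : (O ∩ O').card = (O' \ O).card := by
      refine sy_card_eq_of_swap e₁ ?_ ?_
      · intro b hb
        rw [Finset.mem_inter] at hb; rw [Finset.mem_sdiff]
        exact ⟨(i1' b (hOS hb.1)).mpr hb.2, fun hh => ((i1 b (hOS hb.1)).mp hh) hb.1⟩
      · intro b hb
        rw [Finset.mem_sdiff] at hb; rw [Finset.mem_inter]
        exact ⟨(i1 b (hO'S hb.1)).mpr hb.2, (i1' b (hO'S hb.1)).mpr hb.1⟩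
    refine sy_three_sets hg (A := O ∩ O') (B := O \ O') (C := O' \ O) ?_ ?_ ?_ ?_ ?_ ?_ ?_ ?_ ?_
      c1 (c1.symm.trans c2) ⟨a, Finset.mem_inter.mpr ⟨haO, haO'⟩⟩
    · exact Finset.inter_subset_left.trans hOS
    · exact Finset.sdiff_subset.trans hOS
    · exact Finset.sdiff_subset.trans hO'S
    · intro b hb; rw [Finset.mem_inter] at hb ⊢
      exact ⟨(ix b (hOS hb.1)).mpr hb.1, (ix' b (hOS hb.1)).mpr hb.2⟩
    · intro b hb; rw [Finset.mem_sdiff] at hb ⊢
      exact ⟨(ix b (hOS hb.1)).mpr hb.1, fun hh => hb.2 ((ix' b (hOS hb.1)).mp hh)⟩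
    · intro b hb; rw [Finset.mem_sdiff] at hb ⊢
      exact ⟨(ix' b (hO'S hb.1)).mpr hb.1, fun hh => hb.2 ((ix b (hO'S hb.1)).mp hh)⟩
    · rw [Finset.disjoint_left]; intro b hb hb'
      rw [Finset.mem_inter] at hb; rw [Finset.mem_sdiff] at hb'; exact hb'.2 hb.2
    · rw [Finset.disjoint_left]; intro b hb hb'
      rw [Finset.mem_inter] at hb; rw [Finset.mem_sdiff] at hb'; exact hb'.2 hb.1
    · rw [Finset.disjoint_left]; intro b hb hb'
      rw [Finset.mem_sdiff] at hb hb'; exact hb'.2 hb.1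
  · obtain ⟨d, hdD, hdM⟩ := h.ne
    refine sy_flip_contra hg hOS (fun b hb => (fl x hxD b hb).mpr hxM) hxS ?_ d (hDS d hdD) ?_
      ⟨a, haS⟩
    · intro b hb hfix
      have := (fl' x hxD b hb).not.mpr hxM'
      rw [hfix] at this; exact this Iff.rfl
    · intro b hb; have := (fl d hdD b hb).not.mpr hdM; tauto
  · obtain ⟨d, hdD, hdM⟩ := h'.ne
    refine sy_flip_contra hg hO'S (fun b hb => (fl' x hxD b hb).mpr hxM') hxS ?_ d (hDS d hdD) ?_
      ⟨a, haS⟩
    · intro b hb hfix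
      have := (fl x hxD b hb).not.mpr hxM
      rw [hfix] at this; exact this Iff.rfl
    · intro b hb; have := (fl' d hdD b hb).not.mpr hdM; tauto
  · refine sy_flip_contra hg (W := S.filter (fun b => (b ∈ O ↔ b ∈ O'))) (Finset.filter_subset _ _)
      ?_ hxS ?_ e₀ (hDS e₀ he₀D) ?_ ⟨a, haS⟩
    · intro b hb
      have h1 := (fl x hxD b hb).not.mpr hxM
      have h2 := (fl' x hxD b hb).not.mpr hxM'
      simp only [Finset.mem_filter]
      have := hxS b hb
      tauto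
    · intro b hb hfix
      have := (fl x hxD b hb).not.mpr hxM
      rw [hfix] at this; exact this Iff.rfl
    · intro b hb
      have h1 := (fl e₀ he₀D b hb).mpr he₀M
      have h2 := (fl' e₀ he₀D b hb).not.mpr he₀M'
      simp only [Finset.mem_filter]
      have := hDS e₀ he₀D b hb
      tauto

end Cfsg.Agent.Helper8
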