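import Cfsg.Agent.Helper8.SyB

set_option autoImplicit false

namespace Cfsg.Agent.Helper8

open Equiv Function

variable {α : Type*} [DecidableEq α] [Fintype α]

theorem orb_subset {D : Subgroup (Perm α)} {S : Finset α} (hDS : ∀ d ∈ D, ∀ s ∈ S, d s ∈ S) {c : α}
    (hc : c ∈ S) : orb D c ⊆ S := by
  intro b hb; rw [mem_orb] at hb; obtain ⟨d, hd, rfl⟩ := hb; exact hDS d hd c hc

theorem orb_inv {D : Subgroup (Perm α)} {c : α} {d : Perm α} (hd : d ∈ D) {b : α}
    (hb : b ∈ orb D c) : d b ∈ orb D c := by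
  rw [mem_orb] at hb ⊢; obtain ⟨e, he, rfl⟩ := hb; exact ⟨d * e, D.mul_mem hd he, rfl⟩

theorem orb_self {D : Subgroup (Perm α)} (c : α) : c ∈ orb D c := mem_orb.mpr ⟨1, D.one_mem, rfl⟩

theorem orb_conj {D : Subgroup (Perm α)} {g : Perm α} (hgD : ∀ d, d ∈ D ↔ g * d * g⁻¹ ∈ D) (c : α) :
    orb D (g c) = (orb D c).image g := by
  ext b
  rw [mem_orb, Finset.mem_image]
  constructor
  · rintro ⟨d, hd, rfl⟩
    refine ⟨(g⁻¹ * d * g) c, mem_orb.mpr ⟨g⁻¹ * d * g, ?_, rfl⟩, by simp [Perm.mul_apply]⟩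
    rw [hgD]; simpa [mul_assoc] using hd
  · rintro ⟨b', hb', rfl⟩
    rw [mem_orb] at hb'
    obtain ⟨d, hd, rfl⟩ := hb'
    exact ⟨g * d * g⁻¹, (hgD d).mp hd, by simp [Perm.mul_apply]⟩

theorem orb_disjoint {D : Subgroup (Perm α)} {c c' : α} (h : c' ∉ orb D c) :
    Disjoint (orb D c) (orb D c') := by
  rw [Finset.disjoint_left]
  intro b hb hb'
  rw [mem_orb] at hb hb'
  obtain ⟨d, hd, rfl⟩ := hb
  obtain ⟨d', hd', hdd⟩ := hb'
  apply h
  rw [mem_orb]
  refine ⟨d'⁻¹ * d, D.mul_mem (D.inv_mem hd') hd, ?_⟩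
  rw [Perm.mul_apply, ← hdd]; simp

theorem norm_fix (g : Perm α) (hgo : Odd (orderOf g)) :
    ∀ (n : ℕ) (S : Finset α) (x : Perm α) (D : Subgroup (Perm α)), S.card = n →
      IsPGroup 2 D → x ∈ D → (∀ d ∈ D, ∀ s ∈ S, d s ∈ S) →
      (∀ d, d ∈ D ↔ g * d * g⁻¹ ∈ D) → (∀ s, g s ∈ S ↔ s ∈ S) → Good2 x S →
      ∀ s ∈ S, g s = s := by
  intro n
  induction n using Nat.strong_induction_on with
  | _ n ih =>
  intro S x D hn hD hxD hDS hgD hgS hgood a haS
  have hgD' : ∀ d, d ∈ D ↔ g⁻¹ * d * g ∈ D := by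
    intro d
    rw [hgD (g⁻¹ * d * g)]
    simp [mul_assoc]
  have hgS' : ∀ s, g⁻¹ s ∈ S ↔ s ∈ S := by
    intro s
    rw [← hgS (g⁻¹ s)]; simp
  have hxS : ∀ b ∈ S, x b ∈ S := fun b hb => hDS x hxD b hb
  set O := orb D a with hO
  have hOS : O ⊆ S := orb_subset hDS haS
  have haO : a ∈ O := orb_self a
  by_cases hOeq : O = S
  · have htr : ∀ b ∈ S, ∃ d ∈ D, d a = b := by
      intro b hb
      rw [← hOeq] at hb
      exact mem_orb.mp hb
    by_cases hmove : ∃ d ∈ D, d a ≠ a
    · obtain ⟨M, hM⟩ := exists_half hD hmove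
      set M' : Subgroup (Perm α) := M.map (MulAut.conj g).toMonoidHom with hM'def
      have hM'mem : ∀ d, d ∈ M' ↔ g⁻¹ * d * g ∈ M := by
        intro d
        rw [hM'def, Subgroup.mem_map]
        constructor
        · rintro ⟨m, hm, rfl⟩
          simpa [mul_assoc] using hm
        · intro h
          exact ⟨g⁻¹ * d * g, h, by simp [mul_assoc]⟩
      have hM' : IsHalf D M' a := by
        refine ⟨?_, ?_, ?_, ?_⟩
        · intro d hd
          rw [hgD']; exact hM.le ((hM'mem d).mp hd)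
        · intro d hd hda
          rw [hM'mem]
          obtain ⟨e, he, hea⟩ := htr (g⁻¹ a) ((hgS' a).mpr haS)
          refine hM.stab' ((hgD' d).mp hd) he ?_
          rw [hea]; simp [Perm.mul_apply, hda]
        · intro d e hd he hdM heM
          rw [hM'mem] at hdM heM ⊢
          have := hM.two _ _ ((hgD' d).mp hd) ((hgD' e).mp he) hdM heM
          simpa [mul_assoc] using this
        · obtain ⟨d, hd, hdM⟩ := hM.ne
          refine ⟨g * d * g⁻¹, (hgD d).mp hd, ?_⟩
          rw [hM'mem]; simpa [mul_assoc] using hdM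
      have hMM' : M = M' := le_antisymm (half_unique hgood hxD hDS htr haS hM hM')
        (half_unique hgood hxD hDS htr haS hM' hM)
      have hgM' : ∀ m, m ∈ M ↔ g⁻¹ * m * g ∈ M := by
        intro m
        rw [← hM'mem, ← hMM']
      have hgM : ∀ m, m ∈ M ↔ g * m * g⁻¹ ∈ M := by
        intro m
        rw [hgM' (g * m * g⁻¹)]; simp [mul_assoc]
      set O₁ := orb M a with hO₁
      have hO₁S : O₁ ⊆ S := fun b hb => by
        rw [hO₁, mem_orb] at hb; obtain ⟨m, hm, rfl⟩ := hb; exact hDS m (hM.le hm) a haS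
      have haO₁ : a ∈ O₁ := orb_self a
      have fl : ∀ d ∈ D, ∀ b ∈ S, ((d b ∈ O₁ ↔ b ∈ O₁) ↔ d ∈ M) :=
        fun d hd b hb => hM.flip hd (htr b hb)
      have hga : g a ∈ S := (hgS a).mpr haS
      have key : ∀ b ∈ S, ((g b ∈ O₁ ↔ g a ∈ O₁) ↔ b ∈ O₁) := by
        intro b hb
        obtain ⟨e, he, rfl⟩ := htr b hb
        have h1 := fl (g * e * g⁻¹) ((hgD e).mp he) (g a) hga
        have h2 : (g * e * g⁻¹) (g a) = g (e a) := by simp [Perm.mul_apply]
        rw [h2, ← hgM e, ← hM.mem_iff he] at h1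
        exact h1
      have hgaO : g a ∈ O₁ := by
        by_contra hcon
        have hflip : ∀ b ∈ S, (g b ∈ O₁ ↔ b ∉ O₁) := by
          intro b hb
          have := key b hb
          tauto
        have hpow : ∀ k : ℕ, (g ^ k) a ∈ S ∧ ((g ^ k) a ∈ O₁ ↔ Even k) := by
          intro k
          induction k with
          | zero => simp [haS, haO₁]
          | succ k ihk =>
            rw [pow_succ', Perm.mul_apply]
            refine ⟨(hgS _).mpr ihk.1, ?_⟩
            rw [hflip _ ihk.1, ihk.2, Nat.even_add_one]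
        have := (hpow (orderOf g)).2
        rw [pow_orderOf_eq_one] at this
        have h3 : Even (orderOf g) := this.mp haO₁
        exact (Nat.not_even_iff_odd.mpr hgo) h3
      have hgS₁ : ∀ s, g s ∈ O₁ ↔ s ∈ O₁ := by
        intro s
        by_cases hs : s ∈ S
        · have := key s hs; tauto
        · have h1 : g s ∉ O₁ := fun h => hs ((hgS s).mp (hO₁S h))
          have h2 : s ∉ O₁ := fun h => hs (hO₁S h)
          tauto
      have hMO₁ : ∀ m ∈ M, ∀ s ∈ O₁, m s ∈ O₁ := fun m hm s hs =>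
        ((fl m (hM.le hm) s (hO₁S hs)).mpr hm).mpr hs
      obtain ⟨d₀, hd₀D, hd₀M⟩ := hM.ne
      have hlt : O₁.card < n := by
        rw [← hn]
        apply Finset.card_lt_card
        rw [Finset.ssubset_iff_of_subset hO₁S]
        exact ⟨d₀ a, hDS d₀ hd₀D a haS, fun h => hd₀M ((hM.mem_iff hd₀D).mp h)⟩
      by_cases hxM : x ∈ M
      · exact ih O₁.card hlt O₁ x M rfl (hD.to_le hM.le) hxM hMO₁ hgM hgS₁ (hgood.mono hO₁S) a
          haO₁
      · have hxx : x * x ∈ M := hM.two x x hxD hxD hxM hxM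
        have hgood' : Good2 (x * x) O₁ := by
          refine sy_good_sq hgood hO₁S (Finset.sdiff_subset (s := S) (t := O₁))
            Finset.disjoint_sdiff ?_
          intro b hb
          rw [Finset.mem_sdiff]
          refine ⟨hxS b (hO₁S hb), fun h => ?_⟩
          have := (fl x hxD b (hO₁S hb)).not.mpr hxM
          tauto
        exact ih O₁.card hlt O₁ (x * x) M rfl (hD.to_le hM.le) hxx hMO₁ hgM hgS₁ hgood' a haO₁
    · push_neg at hmove
      obtain ⟨d, hd, hda⟩ := htr (g a) ((hgS a).mpr haS)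
      rw [← hda, hmove d hd]
  · have hgaO : g a ∈ O := by
      by_contra hcon
      have hga : g a ∈ S := (hgS a).mpr haS
      have hgga : g (g a) ∈ S := (hgS _).mpr hga
      have e1 : orb D (g a) = O.image g := orb_conj hgD a
      have e2 : orb D (g (g a)) = (orb D (g a)).image g := orb_conj hgD (g a)
      have hxinv : ∀ c, ∀ b ∈ orb D c, x b ∈ orb D c := fun c b hb => orb_inv hxD hb
      have d01 : Disjoint O (orb D (g a)) := orb_disjoint hcon
      have d12 : Disjoint (orb D (g a)) (orb D (g (g a))) := by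
        apply orb_disjoint
        intro h
        rw [e1, Finset.mem_image] at h
        obtain ⟨b, hb, hbe⟩ := h
        have := g.injective hbe
        exact hcon (this ▸ hb)
      have d02 : Disjoint O (orb D (g (g a))) := by
        apply orb_disjoint
        intro h
        have hh : ∀ d, d ∈ D ↔ (g * g) * d * (g * g)⁻¹ ∈ D := by
          intro d
          rw [hgD d, hgD (g * d * g⁻¹)]
          simp [mul_assoc]
        have hpow : ∀ k : ℕ, ((g * g) ^ k) a ∈ O := by
          intro k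
          induction k with
          | zero => simpa using haO
          | succ k ihk =>
            rw [pow_succ', Perm.mul_apply]
            rw [hO, mem_orb] at ihk
            obtain ⟨d, hd, hdk⟩ := ihk
            rw [← hdk]
            have h5 : (g * g) (d a) = ((g * g) * d * (g * g)⁻¹) ((g * g) a) := by
              simp [Perm.mul_apply]
            rw [h5]
            exact orb_inv ((hh d).mp hd) h
        obtain ⟨t, ht⟩ := hgo
        have h6 : (g * g) ^ (t + 1) = g := by
          rw [← pow_two, ← pow_mul]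
          have : 2 * (t + 1) = orderOf g + 1 := by omega
          rw [this, pow_succ, pow_orderOf_eq_one, one_mul]
        have := hpow (t + 1)
        rw [h6] at this
        exact hcon this
      have c01 : O.card = (orb D (g a)).card := by
        rw [e1, Finset.card_image_of_injective _ g.injective]
      have c12 : (orb D (g a)).card = (orb D (g (g a))).card := by
        rw [e2, Finset.card_image_of_injective _ g.injective]
      exact sy_three_sets hgood hOS (orb_subset hDS hga) (orb_subset hDS hgga) (hxinv a) (hxinv _)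
        (hxinv _) d01 d02 d12 c01 c12 ⟨a, haO⟩
    have hginvaO : g⁻¹ a ∈ O := by
      rw [hO, mem_orb] at hgaO ⊢
      obtain ⟨d, hd, hda⟩ := hgaO
      refine ⟨(g⁻¹ * d * g)⁻¹, D.inv_mem ((hgD' d).mp hd), ?_⟩
      rw [Perm.inv_eq_iff_eq]
      simp [Perm.mul_apply, hda]
    have hgO : ∀ s, g s ∈ O ↔ s ∈ O := by
      intro s
      constructor
      · intro h
        rw [hO, mem_orb] at h
        obtain ⟨d, hd, hds⟩ := h
        have : s = (g⁻¹ * d * g) (g⁻¹ a) := by
          simp [Perm.mul_apply, hds]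
        rw [this]
        exact orb_inv ((hgD' d).mp hd) hginvaO
      · intro h
        rw [hO, mem_orb] at h
        obtain ⟨d, hd, rfl⟩ := h
        have : g (d a) = (g * d * g⁻¹) (g a) := by simp [Perm.mul_apply]
        rw [this]
        exact orb_inv ((hgD d).mp hd) hgaO
    have hlt : O.card < n := by
      rw [← hn]
      exact Finset.card_lt_card (lt_of_le_of_ne hOS hOeq)
    exact ih O.card hlt O x D rfl hD hxD (fun d hd s hs => orb_inv hd hs) hgD hgO (hgood.mono hOS)
      a haO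

theorem normalizer_two_group {x : Perm α} (hgood : Good2 x Finset.univ) {D : Subgroup (Perm α)}
    (hD : IsPGroup 2 D) (hxD : x ∈ D) :
    IsPGroup 2 (Subgroup.normalizer (D : Set (Perm α))) := by
  intro g
  obtain ⟨k, m, hm, hkm⟩ := Nat.exists_eq_two_pow_mul_odd (orderOf_pos g.1).ne'
  refine ⟨k, ?_⟩
  have hodd : Odd (orderOf (g.1 ^ 2 ^ k)) := by
    have : (g.1 ^ 2 ^ k) ^ m = 1 := by rw [← pow_mul, ← hkm, pow_orderOf_eq_one]
    exact Odd.of_dvd_nat hm (orderOf_dvd_of_pow_eq_one this)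
  have hnorm : g.1 ^ 2 ^ k ∈ Subgroup.normalizer (D : Set (Perm α)) := Subgroup.pow_mem _ g.2 _
  have hfix := norm_fix (g.1 ^ 2 ^ k) hodd _ Finset.univ x D rfl hD hxD
    (fun _ _ _ _ => Finset.mem_univ _)
    (fun d => Subgroup.mem_normalizer_iff.mp hnorm d) (fun s => by simp) hgood
  apply Subtype.ext
  show (g ^ 2 ^ k).1 = 1
  rw [Subgroup.coe_pow]
  ext s
  rw [Perm.one_apply]
  exact hfix s (Finset.mem_univ s)

theorem unique_sylow_of_normalizers {G : Type*} [Group G] [Finite G] (x : G)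
    (hN : ∀ D : Subgroup G, IsPGroup 2 D → x ∈ D →
      IsPGroup 2 (Subgroup.normalizer (D : Set G)))
    (P : Sylow 2 G) (hxP : x ∈ P) :
    ∀ (k : ℕ) (R : Subgroup G), IsPGroup 2 R → x ∈ R →
      Nat.card P - Nat.card (R ⊓ (P : Subgroup G) : Subgroup G) = k → R ≤ P := by
  haveI : Fact (Nat.Prime 2) := ⟨Nat.prime_two⟩
  intro k
  induction k using Nat.strong_induction_on with
  | _ k ih =>
  intro R hR hxR hk
  by_contra hRP
  set D := R ⊓ (P : Subgroup G) with hDdef
  have hDR : D ≤ R := inf_le_left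
  have hDP : D ≤ P := inf_le_right
  have hD2 : IsPGroup 2 D := hR.to_le hDR
  have hxD : x ∈ D := ⟨hxR, hxP⟩
  have hT := hN D hD2 hxD
  have key : ∀ (Q : Subgroup G), IsPGroup 2 Q → D ≤ Q → D ≠ Q →
      ∃ r ∈ Q, r ∉ D ∧ r ∈ Subgroup.normalizer (D : Set G) := by
    intro Q hQ hDQ hne
    haveI : Group.IsNilpotent Q := hQ.isNilpotent
    have hlt : D.subgroupOf Q < ⊤ := by
      rw [lt_top_iff_ne_top]
      intro h
      rw [Subgroup.subgroupOf_eq_top] at h
      exact hne (le_antisymm hDQ h)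
    have := Group.normalizerCondition_of_isNilpotent (G := Q) (D.subgroupOf Q) hlt
    obtain ⟨r, hr1, hr2⟩ := SetLike.exists_of_lt this
    refine ⟨r.1, r.2, fun h => hr2 (Subgroup.mem_subgroupOf.mpr h), ?_⟩
    rw [Subgroup.mem_normalizer_iff] at hr1 ⊢
    intro h
    constructor
    · intro hh
      have := (hr1 ⟨h, hDQ hh⟩).mp (Subgroup.mem_subgroupOf.mpr hh)
      exact Subgroup.mem_subgroupOf.mp this
    · intro hh
      have hhQ : h ∈ Q := by
        have h1 : r.1 * h * r.1⁻¹ ∈ Q := hDQ hh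
        have := Q.mul_mem (Q.mul_mem (Q.inv_mem r.2) h1) r.2
        simpa [mul_assoc] using this
      have := (hr1 ⟨h, hhQ⟩).mpr (Subgroup.mem_subgroupOf.mpr hh)
      exact Subgroup.mem_subgroupOf.mp this
  have hDneR : D ≠ R := fun h => hRP (h ▸ hDP)
  have hDneP : D ≠ (P : Subgroup G) := by
    intro h
    have hPR : (P : Subgroup G) ≤ R := h ▸ hDR
    have := P.is_maximal' hR hPR
    exact hRP (this ▸ le_refl _)
  obtain ⟨r, hrR, hrD, hrN⟩ := key R hR hDR hDneR
  obtain ⟨p, hpP, hpD, hpN⟩ := key P P.2 hDP hDneP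
  set T := Subgroup.normalizer (D : Set G) with hTdef
  have hDT : D ≤ T := Subgroup.le_normalizer
  have hxT : x ∈ T := hDT hxD
  have hTP : ¬ T ≤ P := fun h => hrD ⟨hrR, h hrN⟩
  have hle : D ≤ T ⊓ (P : Subgroup G) := le_inf hDT hDP
  have hcard : Nat.card D < Nat.card (T ⊓ (P : Subgroup G) : Subgroup G) := by
    by_contra hcon
    push_neg at hcon
    have := Subgroup.eq_of_le_of_card_ge hle hcon
    exact hpD (this ▸ (⟨hpN, hpP⟩ : p ∈ T ⊓ (P : Subgroup G)))
  have h2 : Nat.card (T ⊓ (P : Subgroup G) : Subgroup G) ≤ Nat.card P :=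
    Subgroup.card_le_of_le inf_le_right
  exact hTP (ih _ (by omega) T hT hxT rfl)

theorem unique_sylow_of_good {x : Perm α} (hgood : Good2 x Finset.univ)
    (hx : IsPGroup 2 (Subgroup.zpowers x)) :
    ∃! P : Sylow 2 (Perm α), x ∈ P := by
  obtain ⟨P, hP⟩ := hx.exists_le_sylow
  have hxP : x ∈ P := hP (Subgroup.mem_zpowers x)
  refine ⟨P, hxP, fun Q hxQ => ?_⟩
  have hQP : (Q : Subgroup (Perm α)) ≤ P :=
    unique_sylow_of_normalizers x (fun D hD hxD => normalizer_two_group hgood hD hxD) P hxP _ Q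
      Q.2 hxQ rfl
  exact Sylow.ext (Q.is_maximal' P.2 hQP).symm

end Cfsg.Agent.Helper8
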