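import Cfsg.Agent.Helper8.SyC

set_option autoImplicit false

namespace Cfsg.Agent.Helper8

open Equiv Function

variable {α : Type*} [DecidableEq α] [Fintype α]

theorem sy_swap_comm {p q r s : α} (h1 : p ≠ r) (h2 : p ≠ s) (h3 : q ≠ r) (h4 : q ≠ s) :
    swap p q * swap r s = swap r s * swap p q := by
  have : swap r s * swap p q * (swap r s)⁻¹ = swap p q := by
    rw [← Equiv.swap_apply_apply]
    rw [Equiv.swap_apply_of_ne_of_ne h1 h2, Equiv.swap_apply_of_ne_of_ne h3 h4]
  have h5 := congrArg (· * swap r s) this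
  simp only [inv_mul_cancel_right] at h5
  exact h5.symm

theorem sy_zpow_shift (x : Perm α) (i j : ℤ) (c d : α) :
    (x ^ i) c = (x ^ j) d ↔ (x ^ (-j + i)) c = d := by
  rw [zpow_add, Perm.mul_apply, zpow_neg, Perm.inv_eq_iff_eq]

theorem sy_le_of_unique {G : Type*} [Group G] {x : G} (hx : IsPGroup 2 (Subgroup.zpowers x))
    (P : Sylow 2 G) (huniq : ∀ Q : Sylow 2 G, x ∈ Q → Q = P) {E : Subgroup G} (hE : IsPGroup 2 E)
    (hn : x ∈ Subgroup.normalizer (E : Set G)) : E ≤ P := by
  have h1 : IsPGroup 2 (Subgroup.zpowers x ⊔ E : Subgroup G) :=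
    IsPGroup.to_sup_of_normal_right' hx hE (by
      rw [Subgroup.zpowers_le]; exact hn)
  obtain ⟨Q, hQ⟩ := h1.exists_le_sylow
  have hxQ : x ∈ Q := hQ (Subgroup.mem_sup_left (Subgroup.mem_zpowers x))
  have := huniq Q hxQ
  subst this
  exact le_sup_right.trans hQ

theorem sy_swap_mem {x : Perm α} (hx : IsPGroup 2 (Subgroup.zpowers x))
    (P : Sylow 2 (Perm α)) (huniq : ∀ Q : Sylow 2 (Perm α), x ∈ Q → Q = P) {a b : α}
    (hper : ∀ k : ℤ, (x ^ k) a = a ↔ (x ^ k) b = b) (hdiff : ∀ k : ℤ, (x ^ k) a ≠ b) :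
    swap a b ∈ P := by
  set s : ℤ → Perm α := fun i => swap ((x ^ i) a) ((x ^ i) b) with hs
  set T : Set (Perm α) := Set.range s with hT
  set E := Subgroup.closure T with hE
  have hiff : ∀ i j : ℤ, (x ^ i) a = (x ^ j) a ↔ (x ^ i) b = (x ^ j) b := fun i j => by
    rw [sy_zpow_shift, sy_zpow_shift, hper]
  have hcomm : ∀ i j, s i * s j = s j * s i := by
    intro i j
    by_cases h : (x ^ i) a = (x ^ j) a
    · have h' := (hiff i j).mp h
      have : s i = s j := by simp only [hs]; rw [h, h']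
      rw [this]
    · refine sy_swap_comm h ?_ ?_ ?_
      · intro h'; exact hdiff _ ((sy_zpow_shift x i j a b).mp h')
      · intro h'; exact hdiff _ ((sy_zpow_shift x j i a b).mp h'.symm)
      · intro h'; exact h ((hiff i j).mpr h')
  have hTc : T ⊆ Subgroup.centralizer T := by
    rintro _ ⟨i, rfl⟩
    rw [SetLike.mem_coe, Subgroup.mem_centralizer_iff]
    rintro _ ⟨j, rfl⟩
    exact hcomm j i
  have hEc : E ≤ Subgroup.centralizer T := (Subgroup.closure_le _).mpr hTc
  have hEE : E ≤ Subgroup.centralizer (E : Set (Perm α)) :=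
    (Subgroup.closure_le_centralizer_centralizer T).trans
      (Subgroup.centralizer_le (fun y hy => hEc hy))
  have hsq : ∀ g ∈ E, g * g = 1 := by
    intro g hg
    refine Subgroup.closure_induction (p := fun g _ => g * g = 1) ?_ ?_ ?_ ?_ hg
    · rintro _ ⟨i, rfl⟩; exact Equiv.swap_mul_self _ _
    · simp
    · intro g h hg hh ihg ihh
      have hc : h * g = g * h := (Subgroup.mem_centralizer_iff.mp (hEE hg)) h hh
      calc g * h * (g * h) = g * (h * g) * h := by group
        _ = g * (g * h) * h := by rw [hc]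
        _ = (g * g) * (h * h) := by group
        _ = 1 := by rw [ihg, ihh, one_mul]
    · intro g hg ih
      rw [← mul_inv_rev, ih, inv_one]
  have hE2 : IsPGroup 2 E := by
    intro g
    refine ⟨1, Subtype.ext ?_⟩
    simp only [pow_one, Subgroup.coe_pow, Subgroup.coe_one, pow_two]
    exact hsq g.1 g.2
  have hconj : ∀ i, x * s i * x⁻¹ = s (1 + i) := by
    intro i
    show x * swap ((x ^ i) a) ((x ^ i) b) * x⁻¹ = swap ((x ^ (1 + i)) a) ((x ^ (1 + i)) b)
    rw [zpow_one_add, Perm.mul_apply, Perm.mul_apply]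
    exact (Equiv.swap_apply_apply x _ _).symm
  have hconj' : ∀ i, x⁻¹ * s i * x = s (-1 + i) := by
    intro i
    have := hconj (-1 + i)
    rw [show (1 : ℤ) + (-1 + i) = i by ring] at this
    rw [← this]; group
  have hclos : ∀ (y : Perm α), (∀ t ∈ T, y * t * y⁻¹ ∈ E) → ∀ g ∈ E, y * g * y⁻¹ ∈ E := by
    intro y hy g hg
    refine Subgroup.closure_induction (p := fun g _ => y * g * y⁻¹ ∈ E) ?_ ?_ ?_ ?_ hg
    · intro t ht; exact hy t ht
    · simp
    · intro g h _ _ ihg ihh
      have : y * (g * h) * y⁻¹ = (y * g * y⁻¹) * (y * h * y⁻¹) := by group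
      rw [this]; exact E.mul_mem ihg ihh
    · intro g _ ih
      have : y * g⁻¹ * y⁻¹ = (y * g * y⁻¹)⁻¹ := by group
      rw [this]; exact E.inv_mem ih
  have hnorm : x ∈ Subgroup.normalizer (E : Set (Perm α)) := by
    rw [Subgroup.mem_normalizer_iff]
    intro h
    constructor
    · intro hh
      refine hclos x ?_ h hh
      rintro _ ⟨i, rfl⟩
      rw [hconj]; exact Subgroup.subset_closure ⟨_, rfl⟩
    · intro hh
      have := hclos x⁻¹ (by
        rintro _ ⟨i, rfl⟩
        rw [inv_inv, hconj']; exact Subgroup.subset_closure ⟨_, rfl⟩) (x * h * x⁻¹) hh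
      simpa [mul_assoc] using this
  have hEP := sy_le_of_unique hx P huniq hE2 hnorm
  have h0 : s 0 = swap a b := by simp [hs]
  rw [← h0]
  exact hEP (Subgroup.subset_closure ⟨0, rfl⟩)

theorem sy_not_three {P : Sylow 2 (Perm α)} {g : Perm α} (hg : g ∈ P) (h3 : orderOf g = 3) :
    False := by
  obtain ⟨k, hk⟩ := P.2 ⟨g, hg⟩
  have h1 : g ^ 2 ^ k = 1 := by
    have := congrArg Subtype.val hk
    simpa using this
  have h2 := orderOf_dvd_of_pow_eq_one h1
  rw [h3] at h2
  have := (Nat.Prime.dvd_of_dvd_pow Nat.prime_three h2)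
  omega

theorem sy_fixed_le {x : Perm α} (hx : IsPGroup 2 (Subgroup.zpowers x)) (P : Sylow 2 (Perm α))
    (huniq : ∀ Q : Sylow 2 (Perm α), x ∈ Q → Q = P) : Fintype.card α ≤ x.support.card + 2 := by
  by_contra hcon
  push_neg at hcon
  have h1 : 2 < (x.supportᶜ).card := by
    rw [Finset.card_compl]; omega
  obtain ⟨a, ha, b, hb, c, hc, hab, hac, hbc⟩ := Finset.two_lt_card.mp h1
  have fix : ∀ {d}, d ∈ x.supportᶜ → ∀ k : ℤ, (x ^ k) d = d := by
    intro d hd k
    rw [Finset.mem_compl, Perm.mem_support, not_not] at hd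
    exact Perm.zpow_apply_eq_self_of_apply_eq_self hd k
  have hab' : swap a b ∈ P := sy_swap_mem hx P huniq (fun k => by rw [fix ha, fix hb]; simp)
    (fun k => by rw [fix ha]; exact hab)
  have hac' : swap a c ∈ P := sy_swap_mem hx P huniq (fun k => by rw [fix ha, fix hc]; simp)
    (fun k => by rw [fix ha]; exact hac)
  exact sy_not_three (Subgroup.mul_mem _ hab' hac')
    (Perm.isThreeCycle_swap_mul_swap_same hab hac hbc).orderOf

theorem sy_nodup {x : Perm α} (hx : IsPGroup 2 (Subgroup.zpowers x)) (P : Sylow 2 (Perm α))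
    (huniq : ∀ Q : Sylow 2 (Perm α), x ∈ Q → Q = P) : x.cycleType.Nodup := by
  rw [Perm.cycleType_def, Multiset.nodup_map_iff_inj_on x.cycleFactorsFinset.nodup]
  intro c1 hc1 c2 hc2 hcard
  by_contra hne
  rw [Finset.mem_val] at hc1 hc2
  have hcyc1 := (Perm.mem_cycleFactorsFinset_iff.mp hc1).1
  have hcyc2 := (Perm.mem_cycleFactorsFinset_iff.mp hc2).1
  obtain ⟨a, ha⟩ := hcyc1.nonempty_support
  obtain ⟨b, hb⟩ := hcyc2.nonempty_support
  have e1 : c1 = x.cycleOf a := Perm.cycle_is_cycleOf ha hc1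
  have e2 : c2 = x.cycleOf b := Perm.cycle_is_cycleOf hb hc2
  have on1 := Perm.isCycleOn_support_cycleOf x a
  have on2 := Perm.isCycleOn_support_cycleOf x b
  rw [← e1] at on1; rw [← e2] at on2
  have hper : ∀ k : ℤ, (x ^ k) a = a ↔ (x ^ k) b = b := by
    intro k
    rw [on1.zpow_apply_eq ha, on2.zpow_apply_eq hb]
    simp only [Function.comp] at hcard
    rw [hcard]
  have hdiff : ∀ k : ℤ, (x ^ k) a ≠ b := by
    intro k hk
    have : x.SameCycle a b := ⟨k, hk⟩
    exact hne (by rw [e1, e2, this.cycleOf_eq])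
  have hxb : x b ≠ b := by
    have : b ∈ x.support := Perm.mem_cycleFactorsFinset_support_le hc2 hb
    exact Perm.mem_support.mp this
  have hper' : ∀ k : ℤ, (x ^ k) a = a ↔ (x ^ k) (x b) = x b := by
    intro k
    rw [hper k]
    have : (x ^ k) (x b) = x ((x ^ k) b) := by
      rw [← Perm.mul_apply, ← Perm.mul_apply, (Commute.zpow_self x k).eq]
    rw [this]
    exact ⟨fun h => by rw [h], fun h => x.injective h⟩
  have hdiff' : ∀ k : ℤ, (x ^ k) a ≠ x b := by
    intro k hk
    apply hdiff (-1 + k)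
    rw [zpow_add, Perm.mul_apply, hk, zpow_neg, zpow_one]
    simp
  have h1 := sy_swap_mem hx P huniq hper hdiff
  have h2 := sy_swap_mem hx P huniq hper' hdiff'
  have hab : a ≠ b := by have := hdiff 0; simpa using this
  have haxb : a ≠ x b := by have := hdiff' 0; simpa using this
  exact sy_not_three (Subgroup.mul_mem _ h1 h2)
    (Perm.isThreeCycle_swap_mul_swap_same hab haxb hxb.symm).orderOf

theorem sy_good_of {x : Perm α} {k : ℕ} (hk : orderOf x = 2 ^ k)
    (hfix : Fintype.card α ≤ x.support.card + 2) (hnd : x.cycleType.Nodup) :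
    Good2 x Finset.univ := by
  have hperiod : ∀ a, a ∈ x.support → pper x a = (x.cycleOf a).support.card := by
    intro a ha
    have hon := Perm.isCycleOn_support_cycleOf x a
    have hmem : a ∈ (x.cycleOf a).support := by
      rw [Perm.mem_support_cycleOf_iff]; exact ⟨Perm.SameCycle.refl _ _, ha⟩
    unfold pper
    apply Nat.dvd_antisymm
    · apply IsPeriodicPt.minimalPeriod_dvd
      show (⇑x)^[_] a = a
      rw [Perm.iterate_eq_pow, hon.pow_apply_eq hmem]
    · rw [← hon.pow_apply_eq hmem, ← Perm.iterate_eq_pow]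
      exact isPeriodicPt_minimalPeriod (⇑x) a
  refine ⟨fun a _ => ?_, ?_, fun j hj => ?_⟩
  · have : pper x a ∣ 2 ^ k := by
      unfold pper
      apply IsPeriodicPt.minimalPeriod_dvd
      show (⇑x)^[2 ^ k] a = a
      rw [Perm.iterate_eq_pow, ← hk, pow_orderOf_eq_one]; rfl
    obtain ⟨j, _, hj⟩ := (Nat.dvd_prime_pow Nat.prime_two).mp this
    exact ⟨j, hj⟩
  · have : Finset.univ.filter (fun a => pper x a = 1) = x.supportᶜ := by
      ext a
      simp [pper_eq_one, Perm.mem_support]
    rw [this, Finset.card_compl]; omega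
  · by_contra hcon
    push_neg at hcon
    have hne : (Finset.univ.filter (fun a => pper x a = 2 ^ j)).Nonempty := by
      rw [← Finset.card_pos]; have : 0 < 2 ^ j := by positivity
      omega
    obtain ⟨a, ha⟩ := hne
    rw [Finset.mem_filter] at ha
    have h2j : 2 ≤ 2 ^ j := by
      calc 2 = 2 ^ 1 := by norm_num
        _ ≤ 2 ^ j := Nat.pow_le_pow_right (by norm_num) hj
    have hsupp : ∀ c, pper x c = 2 ^ j → c ∈ x.support := by
      intro c hc
      rw [Perm.mem_support]
      intro h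
      have := (pper_eq_one x c).mpr h
      omega
    have hasupp := hsupp a ha.2
    have hcard : (x.cycleOf a).support.card = 2 ^ j := by rw [← hperiod a hasupp]; exact ha.2
    obtain ⟨b, hb, hbn⟩ : ∃ b ∈ Finset.univ.filter (fun a => pper x a = 2 ^ j),
        b ∉ (x.cycleOf a).support := by
      by_contra hall
      push_neg at hall
      have := Finset.card_le_card (fun b hb => hall b hb :
        Finset.univ.filter (fun a => pper x a = 2 ^ j) ⊆ (x.cycleOf a).support)
      omega
    rw [Finset.mem_filter] at hb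
    have hbsupp := hsupp b hb.2
    have hcardb : (x.cycleOf b).support.card = 2 ^ j := by rw [← hperiod b hbsupp]; exact hb.2
    have hmema : x.cycleOf a ∈ x.cycleFactorsFinset :=
      Perm.cycleOf_mem_cycleFactorsFinset_iff.mpr hasupp
    have hmemb : x.cycleOf b ∈ x.cycleFactorsFinset :=
      Perm.cycleOf_mem_cycleFactorsFinset_iff.mpr hbsupp
    rw [Perm.cycleType_def] at hnd
    have := Multiset.inj_on_of_nodup_map hnd _ (Finset.mem_val.mpr hmema) _
      (Finset.mem_val.mpr hmemb) (by simp only [Function.comp]; rw [hcard, hcardb])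
    apply hbn
    rw [this, Perm.mem_support_cycleOf_iff]
    exact ⟨Perm.SameCycle.refl _ _, hbsupp⟩

end Cfsg.Agent.Helper8
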